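import Cfsg.Agent.Lib.JankoThree.AutNineteen

/-!
# The elements commuting up to scalars with the normalising element
-/

set_option autoImplicit false

namespace Cfsg.Agent.Lib.JankoThree

open Cfsg.Spor Cfsg.Agent.Lib.Compute

variable {F : Type*} [Field F] [Fintype F] {ω : F} (hF : Fintype.card F = 4)
  (hω : ω ^ 2 + ω + 1 = 0)

local notation "C" => jCoding hF hω

attribute [local irreducible] cS oneC yBound monYCent monYExact

/-- The normalising element. -/
noncomputable def yG : GL F9 F := el hF hω DataAut.yP.1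

/-- The third generator. -/
noncomputable def zG : GL F9 F := el hF hω DataAut.zP.1

theorem yG_spec : yG hF hω ∈ monGroup hF hω ∧ (C).enc (yG hF hω) = DataAut.yP.1 ∧
    (C).enc (yG hF hω)⁻¹ = DataAut.yP.2 := by
  obtain ⟨g, hg, g1, g2⟩ := inMon_spec hF hω yz_checks.1
  rw [yG, el_eq hF hω g1]
  exact ⟨hg, g1, g2⟩

theorem zG_spec : zG hF hω ∈ monGroup hF hω ∧ (C).enc (zG hF hω) = DataAut.zP.1 ∧
    (C).enc (zG hF hω)⁻¹ = DataAut.zP.2 := by
  obtain ⟨g, hg, g1, g2⟩ := inMon_spec hF hω yz_checks.2.1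
  rw [zG, el_eq hF hω g1]
  exact ⟨hg, g1, g2⟩

theorem commScal_iff {a b : GL F9 F} :
    commScal ((C).enc a) ((C).enc b) = true ↔ ∃ n, a * b = scalar hF hω n * (b * a) := by
  simp only [commScal, forceNat_eq, List.any_eq_true]
  rw [← el_mulC hF hω rfl rfl, ← el_mulC hF hω rfl rfl]
  constructor
  · rintro ⟨l, hl, e⟩
    obtain ⟨n, rfl⟩ : ∃ n, l = cS n := by
      rw [scalCodes, List.mem_cons, List.mem_cons, List.mem_singleton] at hl
      rcases hl with e' | e' | e' <;> exact ⟨_, e'⟩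
    refine ⟨n, (C).inj ?_⟩
    rw [Nat.eq_of_beq_eq_true e, el_mulC hF hω (scalar_enc hF hω n) rfl]
  · rintro ⟨n, e⟩
    refine ⟨cS n, ?_, ?_⟩
    · have h3 : n = 0 ∨ n = 1 ∨ n = 2 := (by decide : ∀ m : ZMod 3, m = 0 ∨ m = 1 ∨ m = 2) n
      rw [scalCodes, List.mem_cons, List.mem_cons, List.mem_singleton]
      exact h3.imp (congrArg cS) (Or.imp (congrArg cS) (congrArg cS))
    · rw [e, el_mulC hF hω (scalar_enc hF hω n) rfl]
      exact Nat.beq_refl _

theorem yCls_mem_iff {x : ℕ} : DataAut.yCls.any (Nat.beq x) = true ↔ x ∈ DataAut.yCls := by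
  rw [List.any_eq_true]
  exact ⟨fun ⟨y, hy, e⟩ => (Nat.eq_of_beq_eq_true e) ▸ hy, fun h => ⟨x, h, Nat.beq_refl x⟩⟩

theorem yCls_closed {m : GL F9 F} (hm : m ∈ monGroup hF hω) :
    (C).enc (m * yG hF hω * m⁻¹) ∈ DataAut.yCls ∧ (C).enc (m⁻¹ * yG hF hω * m) ∈ DataAut.yCls := by
  suffices h : ∀ x : GL F9 F, (C).enc x ∈ DataAut.yCls →
      (C).enc (m * x * m⁻¹) ∈ DataAut.yCls ∧ (C).enc (m⁻¹ * x * m) ∈ DataAut.yCls by
    refine h _ ?_
    rw [(yG_spec hF hω).2.1]
    exact yCls_mem_iff.mp y_class_checks.1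
  induction hm using Subgroup.closure_induction with
  | mem g hg =>
    intro x hx
    obtain ⟨p, hp, hg⟩ := hg
    obtain ⟨g', -, g1, g2⟩ := gensOK_mon hF hω p hp
    obtain rfl := (C).inj (hg.trans g1.symm)
    have h := List.all_eq_true.mp (List.all_eq_true.mp y_class_checks.2.1 p hp) _ hx
    simp only [forceNat_eq, Bool.and_eq_true] at h
    rw [yCls_mem_iff, yCls_mem_iff] at h
    constructor
    · rw [mul_assoc, el_mulC hF hω g1 (el_mulC hF hω rfl g2)]
      exact h.1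
    · rw [mul_assoc, el_mulC hF hω g2 (el_mulC hF hω rfl g1)]
      exact h.2
  | one => intro x hx; simpa using hx
  | mul a b _ _ ha hb =>
    intro x hx
    refine ⟨?_, ?_⟩
    · have := (ha _ (hb x hx).1).1
      simpa [mul_assoc] using this
    · have := (hb _ (ha x hx).2).2
      simpa [mul_assoc] using this
  | inv a _ ha =>
    intro x hx
    exact ⟨by simpa [mul_assoc] using (ha x hx).2, by simpa [mul_assoc] using (ha x hx).1⟩

/-- Monomial elements commuting with `y` up to scalars. -/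
def monScalSet : Set (GL F9 F) :=
  {m | m ∈ monGroup hF hω ∧ ∃ n, m * yG hF hω = scalar hF hω n * (yG hF hω * m)}

/-- Monomial elements commuting with `y`. -/
def monExactSet : Set (GL F9 F) :=
  {m | m ∈ monGroup hF hω ∧ m * yG hF hω = yG hF hω * m}

theorem ncard_monScalSet_le : (monScalSet hF hω).ncard ≤ 81 := by
  have hsub : ((C).enc '' monScalSet hF hω) ⊆
      ↑((elems jOps Data.monChain).filter fun m => commScal m DataAut.yP.1).toFinset := by
    rintro _ ⟨m, ⟨hm, hc⟩, rfl⟩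
    rw [Finset.mem_coe, List.mem_toFinset, List.mem_filter, ← (yG_spec hF hω).2.1]
    exact ⟨enc_mem_elems C (gensOK_mon hF hω) mon_checks.2.1 hm, (commScal_iff hF hω).mpr hc⟩
  have h := Set.ncard_le_ncard hsub (Finset.finite_toSet _)
  rw [Set.ncard_image_of_injective _ (C).inj, Set.ncard_coe_finset] at h
  refine h.trans ((List.toFinset_card_le _).trans ?_)
  rw [← List.countP_eq_length_filter]
  exact (le_of_eq (by rw [monYCent])).trans (Nat.eq_of_beq_eq_true y_count.1).le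

theorem ncard_monExactSet_le : (monExactSet hF hω).ncard ≤ 27 := by
  have hsub : ((C).enc '' monExactSet hF hω) ⊆
      ↑((elems jOps Data.monChain).filter fun m =>
        Nat.beq (mulC m DataAut.yP.1) (mulC DataAut.yP.1 m)).toFinset := by
    rintro _ ⟨m, ⟨hm, hc⟩, rfl⟩
    rw [Finset.mem_coe, List.mem_toFinset, List.mem_filter, ← (yG_spec hF hω).2.1,
      ← el_mulC hF hω rfl rfl, ← el_mulC hF hω rfl rfl, hc]
    exact ⟨enc_mem_elems C (gensOK_mon hF hω) mon_checks.2.1 hm, Nat.beq_refl _⟩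
  have h := Set.ncard_le_ncard hsub (Finset.finite_toSet _)
  rw [Set.ncard_image_of_injective _ (C).inj, Set.ncard_coe_finset] at h
  refine h.trans ((List.toFinset_card_le _).trans ?_)
  rw [← List.countP_eq_length_filter]
  exact (le_of_eq (by rw [monYExact])).trans (Nat.eq_of_beq_eq_true y_count.2).le

/-- The pairs attached to a representative. -/
def yPairSet (j : ℕ) : Set (GL F9 F × GL F9 F) :=
  {q | q.1 ∈ monGroup hF hω ∧ q.2 ∈ monGroup hF hω ∧
    ∃ n, rep hF hω j * (q.2 * yG hF hω * q.2⁻¹) * (rep hF hω j)⁻¹ =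
      scalar hF hω n * (q.1⁻¹ * yG hF hω * q.1)}

theorem ncard_yPairSet_le (j : ℕ) : (yPairSet hF hω j).ncard ≤ yHit j * (81 * 27) := by
  classical
  have hfin : (yPairSet hF hω j).Finite := Set.toFinite _
  rw [Set.ncard_eq_toFinset_card _ hfin]
  let fv : GL F9 F × GL F9 F → ℕ := fun q => (C).enc (q.2 * yG hF hω * q.2⁻¹)
  have himg : hfin.toFinset.image fv ⊆
      (DataAut.yCls.filter fun s =>
        hasPt DataAut.yClsTree (mulC (repAt j).1 (mulC s (repAt j).2))).toFinset := by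
    intro s hs
    obtain ⟨q, hq, rfl⟩ := Finset.mem_image.mp hs
    rw [Set.Finite.mem_toFinset] at hq
    obtain ⟨h1, h2, n, h3⟩ := hq
    rw [List.mem_toFinset, List.mem_filter]
    refine ⟨(yCls_closed hF hω h2).1, ?_⟩
    rw [← el_mulC hF hω (rep_enc hF hω j).1 (el_mulC hF hω rfl (rep_enc hF hω j).2), ← mul_assoc,
      h3, el_mulC hF hω (scalar_enc hF hω n) rfl]
    have hl : cS n ∈ scalCodes := by
      have h3' : n = 0 ∨ n = 1 ∨ n = 2 := (by decide : ∀ m : ZMod 3, m = 0 ∨ m = 1 ∨ m = 2) n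
      rw [scalCodes, List.mem_cons, List.mem_cons, List.mem_singleton]
      exact h3'.imp (congrArg cS) (Or.imp (congrArg cS) (congrArg cS))
    exact List.all_eq_true.mp (List.all_eq_true.mp y_class_checks.2.2 _ hl) _ (yCls_closed hF hω h1).2
  have hfib : ∀ v ∈ hfin.toFinset.image fv,
      (hfin.toFinset.filter fun q => fv q = v).card ≤ 81 * 27 := by
    intro v hv
    obtain ⟨q0, hq0, rfl⟩ := Finset.mem_image.mp hv
    rw [Set.Finite.mem_toFinset] at hq0
    obtain ⟨a1, a2, n0, a3⟩ := hq0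
    refine le_trans ?_ (Nat.mul_le_mul (ncard_monScalSet_le hF hω) (ncard_monExactSet_le hF hω))
    rw [← Set.ncard_prod, ← Set.ncard_coe_finset]
    refine Set.ncard_le_ncard_of_injOn (fun q => (q.1 * q0.1⁻¹, q0.2⁻¹ * q.2)) ?_ ?_ (Set.toFinite _)
    · intro q hq
      rw [Finset.mem_coe, Finset.mem_filter, Set.Finite.mem_toFinset] at hq
      obtain ⟨⟨b1, b2, n, b3⟩, e⟩ := hq
      have e2 : q.2 * yG hF hω * q.2⁻¹ = q0.2 * yG hF hω * q0.2⁻¹ := (C).inj e
      refine Set.mk_mem_prod ⟨mul_mem b1 (inv_mem a1), ?_⟩ ⟨mul_mem (inv_mem a2) b2, ?_⟩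
      · have e1 : scalar hF hω n0 * (q0.1⁻¹ * yG hF hω * q0.1) =
            scalar hF hω n * (q.1⁻¹ * yG hF hω * q.1) := by rw [← a3, ← b3, e2]
        obtain ⟨k, hk⟩ : ∃ k, (scalar hF hω n0)⁻¹ * scalar hF hω n = scalar hF hω k := by
          have hc : ∀ m, (⟨scalar hF hω m, monGroup_le hF hω (scalar_spec hF hω m).1⟩ :
              ↥(threeJ3 F ω)) ∈ Subgroup.center ↥(threeJ3 F ω) :=
            fun m => scalar_central hF hω rfl
          exact exists_scalar_of_central hF hω (mul_mem (inv_mem (hc n0)) (hc n))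
        have e1' : q0.1⁻¹ * yG hF hω * q0.1 = scalar hF hω k * (q.1⁻¹ * yG hF hω * q.1) := by
          rw [← hk, mul_assoc (scalar hF hω n0)⁻¹, ← e1, inv_mul_cancel_left]
        refine ⟨k, ?_⟩
        calc q.1 * q0.1⁻¹ * yG hF hω = q.1 * (q0.1⁻¹ * yG hF hω * q0.1) * q0.1⁻¹ := by group
          _ = q.1 * scalar hF hω k * (q.1⁻¹ * yG hF hω * q.1) * q0.1⁻¹ := by rw [e1']; group
          _ = scalar hF hω k * q.1 * (q.1⁻¹ * yG hF hω * q.1) * q0.1⁻¹ := by rw [scalar_comm]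
          _ = scalar hF hω k * (yG hF hω * (q.1 * q0.1⁻¹)) := by group
      · calc q0.2⁻¹ * q.2 * yG hF hω = q0.2⁻¹ * (q.2 * yG hF hω * q.2⁻¹) * q.2 := by group
          _ = q0.2⁻¹ * (q0.2 * yG hF hω * q0.2⁻¹) * q.2 := by rw [e2]
          _ = yG hF hω * (q0.2⁻¹ * q.2) := by group
    · intro a _ b _ e
      exact Prod.ext (mul_right_cancel (congrArg Prod.fst e)) (mul_left_cancel (congrArg Prod.snd e))
  refine (Finset.card_le_mul_card_image _ _ hfib).trans ?_
  rw [mul_comm (yHit j)]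
  refine Nat.mul_le_mul_left _ ((Finset.card_le_card himg).trans ?_)
  refine (List.toFinset_card_le _).trans ?_
  rw [yHit, List.countP_eq_length_filter]

/-- The elements commuting with `y` up to scalars in one double coset. -/
def yPart (j : ℕ) : Set (GL F9 F) :=
  {g | (∃ n, g * yG hF hω = scalar hF hω n * (yG hF hω * g)) ∧
    (g : GL F9 F ⧸ monGroup hF hω) ∈ MulAction.orbit ↥(monGroup hF hω) (pnt hF hω j)}

theorem ncard_yPart_le {j : ℕ} (hj : j < 20) :
    (yPart hF hω j).ncard ≤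
      yHit j * (81 * 27) / chainSize (Data.stabs.getD j ([], [])).2 := by
  have h := List.all_eq_true.mp rep_checks.2.2.2.2 j (List.mem_range.mpr hj)
  simp only [stabOK, Bool.and_eq_true, List.all_eq_true] at h
  obtain ⟨hch, hkk⟩ := h
  set S := genGroup C (Data.stabs.getD j ([], [])).1 with hS'
  have hS : GensOK C (Data.stabs.getD j ([], [])).1 := fun p hp =>
    PairOK.mono C le_top (inMon_spec hF hω (hkk p hp).1)
  have hle : S ≤ monGroup hF hω ⊓
      (monGroup hF hω).comap (MulAut.conj (rep hF hω j)⁻¹).toMonoidHom := by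
    refine (Subgroup.closure_le _).2 ?_
    rintro g ⟨p, hp, hg⟩
    obtain ⟨g', hg', h1, -⟩ := inMon_spec hF hω (hkk p hp).1
    obtain rfl := (C).inj (hg.trans h1.symm)
    refine ⟨hg', ?_⟩
    show (rep hF hω j)⁻¹ * g * (rep hF hω j)⁻¹⁻¹ ∈ monGroup hF hω
    rw [inv_inv]
    refine mem_mon_of_sift hF hω ?_
    rw [mul_assoc, el_mulC hF hω (rep_enc hF hω j).2 (el_mulC hF hω hg (rep_enc hF hω j).1)]
    exact (hkk p hp).2
  have hcard : Nat.card ↥S = chainSize (Data.stabs.getD j ([], [])).2 := card_genGroup C hS hch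
  rw [Nat.le_div_iff_mul_le (hcard ▸ Nat.card_pos), ← hcard]
  show _ * Nat.card ↥(S : Set (GL F9 F)) ≤ _
  rw [Nat.card_coe_set_eq, ← Set.ncard_prod]
  refine le_trans ?_ (ncard_yPairSet_le hF hω j)
  have hdec : ∀ g ∈ yPart hF hω j, ∃ m ∈ monGroup hF hω,
      (rep hF hω j)⁻¹ * m⁻¹ * g ∈ monGroup hF hω := by
    rintro g ⟨-, ⟨m, hm⟩⟩
    refine ⟨m.1, m.2, ?_⟩
    have hm' : ((m.1 * rep hF hω j : GL F9 F) : GL F9 F ⧸ monGroup hF hω) = g := hm
    rw [QuotientGroup.eq] at hm'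
    rwa [mul_inv_rev] at hm'
  choose! μ hμ1 hμ2 using hdec
  refine Set.ncard_le_ncard_of_injOn
    (fun q => (μ q.1 * q.2,
      (rep hF hω j)⁻¹ * q.2⁻¹ * rep hF hω j * ((rep hF hω j)⁻¹ * (μ q.1)⁻¹ * q.1))) ?_ ?_
    (Set.toFinite _)
  · rintro ⟨g, x⟩ ⟨hg, hx⟩
    obtain ⟨x1, x2⟩ := hle hx
    have x2' : (rep hF hω j)⁻¹ * x * (rep hF hω j)⁻¹⁻¹ ∈ monGroup hF hω := x2
    rw [inv_inv] at x2'
    obtain ⟨n, hn⟩ := hg.1
    refine ⟨mul_mem (hμ1 g hg) x1, mul_mem ?_ (hμ2 g hg), n, ?_⟩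
    · simpa [mul_assoc] using inv_mem x2'
    · show rep hF hω j * ((rep hF hω j)⁻¹ * x⁻¹ * rep hF hω j * ((rep hF hω j)⁻¹ * (μ g)⁻¹ * g) *
          yG hF hω * ((rep hF hω j)⁻¹ * x⁻¹ * rep hF hω j * ((rep hF hω j)⁻¹ * (μ g)⁻¹ * g))⁻¹) *
          (rep hF hω j)⁻¹ = scalar hF hω n * ((μ g * x)⁻¹ * yG hF hω * (μ g * x))
      calc _ = (μ g * x)⁻¹ * (g * yG hF hω) * g⁻¹ * (μ g * x) := by group
        _ = (μ g * x)⁻¹ * scalar hF hω n * yG hF hω * (μ g * x) := by rw [hn]; group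
        _ = scalar hF hω n * (μ g * x)⁻¹ * yG hF hω * (μ g * x) := by rw [scalar_comm]
        _ = _ := by group
  · rintro ⟨g, x⟩ - ⟨g', x'⟩ - e
    obtain ⟨e1, e2⟩ := Prod.mk.injEq _ _ _ _ ▸ e
    have hg : ∀ a b : GL F9 F, (a * b) * rep hF hω j *
        ((rep hF hω j)⁻¹ * b⁻¹ * rep hF hω j * ((rep hF hω j)⁻¹ * a⁻¹ * g)) = g := by
      intro a b; group
    have hg' : (μ g' * x') * rep hF hω j *
        ((rep hF hω j)⁻¹ * x'⁻¹ * rep hF hω j * ((rep hF hω j)⁻¹ * (μ g')⁻¹ * g')) = g' := by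
      group
    have hgg : g = g' := by rw [← hg (μ g) x, e1, e2, hg']
    subst hgg
    exact Prod.ext rfl (mul_left_cancel e1)

/-- The elements of the triple cover commuting with `y` up to scalars. -/
def yCentSet : Set (GL F9 F) :=
  {g | g ∈ threeJ3 F ω ∧ ∃ n, g * yG hF hω = scalar hF hω n * (yG hF hω * g)}

theorem ncard_yCentSet_le : (yCentSet hF hω).ncard ≤ 81 := by
  have hsub : yCentSet hF hω ⊆ ⋃ j : Fin 20, yPart hF hω j.val := by
    rintro g ⟨hg, hc⟩
    have horb : (g : GL F9 F ⧸ monGroup hF hω) ∈ cosetUnion hF hω := by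
      refine orbit_subset hF hω ⟨⟨g, hg⟩, ?_⟩
      show g • pnt hF hω 0 = _
      rw [one_pnt, MulAction.Quotient.smul_coe, smul_eq_mul, mul_one]
    obtain ⟨j, hj⟩ := Set.mem_iUnion.mp horb
    exact Set.mem_iUnion.mpr ⟨j, hc, hj⟩
  refine (Set.ncard_le_ncard hsub (Set.toFinite _)).trans
    ((Set.ncard_iUnion_le_of_fintype _).trans ?_)
  refine (Finset.sum_le_sum fun j _ => ncard_yPart_le hF hω j.isLt).trans (le_of_eq ?_)
  refine Eq.trans ?_ (Nat.eq_of_beq_eq_true y_bound)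
  rw [yBound, Fin.sum_univ_eq_sum_range
    fun j => yHit j * (81 * 27) / chainSize (Data.stabs.getD j ([], [])).2]
  rfl

/-- Every element commuting with `y` up to scalars is in the list. -/
theorem mem_yCent {g : GL F9 F} (hg : g ∈ yCentSet hF hω) :
    (C).enc g ∈ DataAut.yCent.map Prod.fst := by
  classical
  obtain ⟨hlen, hnd, hall, -⟩ := y_cent_checks
  set L := (DataAut.yCent.map Prod.fst).toFinset
  have hsub : ↑L ⊆ (C).enc '' yCentSet hF hω := by
    intro c hc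
    rw [Finset.mem_coe, List.mem_toFinset, List.mem_map] at hc
    obtain ⟨p, hp, rfl⟩ := hc
    have h := List.all_eq_true.mp hall p hp
    rw [Bool.and_eq_true] at h
    obtain ⟨u, hu, u1, -⟩ := inMon_spec hF hω h.1
    refine ⟨u, ⟨monGroup_le hF hω hu, ?_⟩, u1⟩
    rw [← commScal_iff hF hω, (yG_spec hF hω).2.1, u1]
    exact h.2
  have hcard : L.card = 81 := by
    rw [List.toFinset_card_of_nodup (natNodup_nodup hnd), List.length_map, hlen]
  have heq := Set.eq_of_subset_of_ncard_le hsub (by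
    rw [Set.ncard_image_of_injective _ (C).inj, Set.ncard_coe_finset, hcard]
    exact ncard_yCentSet_le hF hω) (Set.toFinite _)
  have hmem : (C).enc g ∈ (↑L : Set ℕ) := heq ▸ Set.mem_image_of_mem _ hg
  rwa [Finset.mem_coe, List.mem_toFinset] at hmem

end Cfsg.Agent.Lib.JankoThree
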