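import Cfsg.Agent.Lib.JankoThree.Checks
import Cfsg.Agent.Lib.JankoThree.DataLines

/-!
# The checks for the orbits on vectors of the triple cover of the third Janko group
-/

set_option autoImplicit false

namespace Cfsg.Agent.Lib.JankoThree

open Cfsg.Agent.Lib.Compute

/-- The code of a base vector. -/
noncomputable def basePt (k : ℕ) : ℕ := DataLines.basePts.getD k 0

/-- Its orbit under the monomial group. -/
noncomputable def baseOrb (k : ℕ) : List ℕ := DataLines.monOrbits.getD k []

/-- Membership in that orbit. -/
noncomputable def inOrb (k x : ℕ) : Bool := forceNat x fun x => (baseOrb k).any (Nat.beq x)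

/-- Orbit members sent into the orbit by representative `j`. -/
noncomputable def hitCount (k j : ℕ) : ℕ :=
  (baseOrb k).countP fun s => inOrb k (mulV (repAt j).1 s)

/-- Monomial elements fixing the base vector. -/
noncomputable def monFix (k : ℕ) : ℕ :=
  (elems jOps Data.monChain).countP fun m => Nat.beq (mulV m (basePt k)) (basePt k)

/-- The bound for the stabiliser. -/
noncomputable def fixBound (k c : ℕ) : ℕ :=
  ((List.range 20).map fun j =>
    hitCount k j * (c * c) / chainSize (Data.stabs.getD j ([], [])).2).sum

theorem orbit_checks : ∀ k < 2,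
    (baseOrb k).any (Nat.beq (basePt k)) = true ∧ Nat.blt (basePt k) 262144 = true ∧
    ((baseOrb k).all fun s => Nat.blt s 262144) = true ∧
    (Data.monGens.all fun m => (baseOrb k).all fun s =>
      inOrb k (mulV m.1 s) && inOrb k (mulV m.2 s)) = true := by
  decide +kernel

theorem fix_counts : Nat.beq (monFix 0) 216 = true ∧ Nat.beq (monFix 1) 18 = true := by
  refine ⟨?_, ?_⟩ <;> decide +kernel

theorem fix_bounds : Nat.beq (fixBound 0 216) 2160 = true ∧ Nat.beq (fixBound 1 18) 1152 = true := by
  refine ⟨?_, ?_⟩ <;> decide +kernel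

theorem stab_vec_checks :
    DataLines.stabGens.all pairInv = true ∧
    chainCheck jOps DataLines.stabGens DataLines.stabChain = true ∧
    chainSize DataLines.stabChain = 2160 ∧
    DataLines.stabGens.length = DataLines.stabCerts.length ∧
    ((DataLines.stabGens.zip DataLines.stabCerts).all fun q => memC q.1.1 q.2) = true ∧
    (DataLines.stabGens.all fun p => Nat.beq (mulV p.1 (basePt 0)) (basePt 0)) = true ∧
    Nat.beq (basePt 0) 1 = true ∧ Nat.beq (basePt 1) 3 = true := by
  refine ⟨?_, ?_, ?_, rfl, ?_, ?_, ?_, ?_⟩ <;> decide +kernel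

end Cfsg.Agent.Lib.JankoThree
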