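import Cfsg.Agent.Lib.JankoThree.SimpleChecks
import Cfsg.Agent.Lib.JankoThree.LineChecks
import Cfsg.Agent.Lib.JankoThree.DataAut
import Cfsg.Agent.Lib.Compute.Twin

/-!
# The checks for the automorphisms of the third Janko group
-/

set_option autoImplicit false

namespace Cfsg.Agent.Lib.JankoThree

open Cfsg.Spor Cfsg.Agent.Lib.Compute

/-- Whether a tree has an entry at a point. -/
noncomputable def hasPt (t : Tree) (v : ℕ) : Bool :=
  forceNat v fun v => Option.rec (motive := fun _ => Bool) false (fun _ => true) (t.find v)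

/-- The code of the Galois conjugate. -/
noncomputable def galC (c : ℕ) : ℕ :=
  matCode fun z w =>
    ((getP 18 c (ix z)).testBit (ix w) ^^ (getP 18 c (ix z)).testBit (9 + ix w),
      (getP 18 c (ix z)).testBit (9 + ix w))

/-- The code of the twisted conjugate. -/
noncomputable def twistC (c : ℕ) : ℕ :=
  forceNat (galC c) fun g => mulC DataAut.twistP.1 (mulC g DataAut.twistP.2)

/-- A scalar code. -/
noncomputable def isScal (c : ℕ) : Bool := forceNat c fun c => scalCodes.any (Nat.beq c)

/-- Commuting up to a scalar. -/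
noncomputable def commScal (a b : ℕ) : Bool :=
  forceNat (mulC a b) fun u => forceNat (mulC b a) fun v =>
    scalCodes.any fun l => Nat.beq u (mulC l v)

/-- The value of a word in three codes. -/
noncomputable def word3 (a b c : ℕ) : List ℕ → ℕ
  | [] => oneC
  | i :: w => forceNat (word3 a b c w) fun r =>
      mulC (bif Nat.beq i 0 then a else bif Nat.beq i 1 then b else c) r

/-- The value of a word in the three chosen elements. -/
noncomputable def wordX (w : List ℕ) : ℕ :=
  word3 DataAut.xP.1 DataAut.yP.1 DataAut.zP.1 w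

/-- Class members carried into the scalar multiples of the class by representative `j`. -/
noncomputable def yHit (j : ℕ) : ℕ :=
  DataAut.yCls.countP fun s =>
    hasPt DataAut.yClsTree (mulC (repAt j).1 (mulC s (repAt j).2))

/-- Monomial elements commuting with the second generator up to scalars. -/
noncomputable def monYCent : ℕ :=
  (elems jOps Data.monChain).countP fun m => commScal m DataAut.yP.1

/-- Monomial elements commuting with the second generator. -/
noncomputable def monYExact : ℕ :=
  (elems jOps Data.monChain).countP fun m =>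
    Nat.beq (mulC m DataAut.yP.1) (mulC DataAut.yP.1 m)

/-- The bound for elements commuting with the second generator up to scalars. -/
noncomputable def yBound (c : ℕ) : ℕ :=
  ((List.range 20).map fun j =>
    yHit j * c / chainSize (Data.stabs.getD j ([], [])).2).sum

/-- The element number `i` is excluded by its relation, or is a scalar. -/
noncomputable def relOK (i : ℕ) : Bool :=
  let q := DataAut.yWords.getD i ([], 0)
  forceNat (genAt DataAut.yCent jOps i).1 fun d =>
    bif Nat.beq q.2 0 then isScal d else
      isScal (powC jOps (wordX q.1) q.2) &&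
        !isScal (powC jOps (word3 DataAut.xP.1 DataAut.yP.1 (mulC d DataAut.zP.1) q.1) q.2)

theorem x_checks :
    pairInv DataAut.xP = true ∧ memC DataAut.xP.1 DataAut.xCert = true ∧
    Nat.beq (powC jOps DataAut.xP.1 19) oneC = true ∧ isScal DataAut.xP.1 = false ∧
    canC DataAut.xmP.1 = true ∧ canC DataAut.xmP.2 = true ∧
    Nat.beq (Nat.xor DataAut.xP.1 oneC) DataAut.xmP.1 = true ∧
    Nat.beq (mulC DataAut.xmP.1 DataAut.xmP.2) oneC = true ∧
    (∀ i < 9, Nat.beq (getP 18 DataAut.krylov.1 i) (mulV (powC jOps DataAut.xP.1 i) 1) = true) ∧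
    Nat.beq (mulC DataAut.krylov.1 DataAut.krylov.2) oneC = true := by
  refine ⟨?_, ?_, ?_, ?_, ?_, ?_, ?_, ?_, ?_, ?_⟩ <;> decide +kernel

theorem nine_checks :
    pairInv DataAut.nineP = true ∧
    Nat.beq (mulC DataAut.nineP.1 DataAut.xP.1) (mulC DataAut.xP.1 DataAut.nineP.1) = true ∧
    Nat.beq (powC jOps DataAut.nineP.1 9) oneC = true ∧
    Nat.beq (powC jOps DataAut.nineP.1 3) oneC = false ∧
    ((List.range 20).all fun j => (baseOrb 0).all fun s =>
      hasPt DataAut.reachTree (mulV (repAt j).1 s)) = true := by
  refine ⟨?_, ?_, ?_, ?_, ?_⟩ <;> decide +kernel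

theorem nine_outside :
    ((elems jOps Data.monChain).all fun m =>
      !hasPt DataAut.reachTree (mulV m (mulV DataAut.nineP.1 (basePt 0)))) = true := by
  decide +kernel

theorem yz_checks :
    inMon DataAut.yP = true ∧ inMon DataAut.zP = true ∧
    Nat.beq (mulC (mulC DataAut.yP.1 DataAut.xP.1) DataAut.yP.2) (powC jOps DataAut.xP.1 4) = true ∧
    isScal (mulC (mulC (mulC DataAut.zP.1 DataAut.yP.1) DataAut.zP.2) DataAut.yP.1) = true := by
  refine ⟨?_, ?_, ?_, ?_⟩ <;> decide +kernel

theorem y_class_checks :
    (DataAut.yCls.any (Nat.beq DataAut.yP.1)) = true ∧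
    (Data.monGens.all fun m => DataAut.yCls.all fun s =>
      (forceNat (mulC m.1 (mulC s m.2)) fun u => DataAut.yCls.any (Nat.beq u)) &&
        forceNat (mulC m.2 (mulC s m.1)) fun u => DataAut.yCls.any (Nat.beq u)) = true ∧
    (scalCodes.all fun l => DataAut.yCls.all fun s => hasPt DataAut.yClsTree (mulC l s)) = true := by
  refine ⟨?_, ?_, ?_⟩ <;> decide +kernel

theorem y_count : Nat.beq monYCent 81 = true ∧ Nat.beq monYExact 27 = true := by
  refine ⟨?_, ?_⟩ <;> decide +kernel

theorem y_bound : Nat.beq (yBound (81 * 27)) 81 = true := by decide +kernel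

theorem y_cent_checks :
    DataAut.yCent.length = 81 ∧ natNodup (DataAut.yCent.map Prod.fst) = true ∧
    (DataAut.yCent.all fun p => inMon p && commScal p.1 DataAut.yP.1) = true ∧
    ((List.range 81).all relOK) = true := by
  refine ⟨rfl, ?_, ?_, ?_⟩ <;> decide +kernel

theorem generation_checks :
    DataAut.monValues.length = DataAut.monWords.length ∧
    ((DataAut.monWords.zip DataAut.monValues).all fun q => Nat.beq (wordX q.1) q.2.1) = true ∧
    DataAut.monValues.all inMon = true ∧
    chainCheck jOps DataAut.monValues DataAut.valChain = true ∧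
    chainSize DataAut.valChain = 5832 ∧
    inMon DataAut.outLeft = true ∧ inMon DataAut.outRight = true ∧
    Nat.beq (mulC DataAut.outLeft.1 (mulC (wordX DataAut.outWord) DataAut.outRight.1)) invol.1 =
      true := by
  refine ⟨rfl, ?_, ?_, ?_, ?_, ?_, ?_, ?_⟩ <;> decide +kernel

theorem twist_checks :
    pairInv DataAut.twistP = true ∧
    (∀ i < 7, memC (twistC (genAt Data.gens jOps i).1)
      (DataAut.twistCerts.getD i (20, (oneC, oneC))) = true) ∧
    pairInv DataAut.nP = true ∧ memC DataAut.nP.1 DataAut.nCert = true ∧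
    Nat.beq (mulC DataAut.nP.1 (mulC (twistC DataAut.xP.1) DataAut.nP.2)) DataAut.xP.2 = true := by
  refine ⟨?_, ?_, ?_, ?_, ?_⟩ <;> decide +kernel

end Cfsg.Agent.Lib.JankoThree
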