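import Cfsg.Agent.Lib.JankoThree.LineChecks
import Cfsg.Agent.Lib.JankoThree.Simple

/-!
# The stabilisers of two vectors in the triple cover of the third Janko group
-/

set_option autoImplicit false

namespace Cfsg.Agent.Lib.JankoThree

open Cfsg.Spor Cfsg.Agent.Lib.Compute

variable {F : Type*} [Field F] [Fintype F] {ω : F} (hF : Fintype.card F = 4)
  (hω : ω ^ 2 + ω + 1 = 0)

local notation "C" => jCoding hF hω

/-- The base vector. -/
noncomputable def baseVec (F : Type*) [Field F] (ω : F) (k : ℕ) : F9 → F := decV F ω (basePt k)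

theorem mulV_spec {g : GL F9 F} {c : ℕ} (h : (C).enc g = c) (x : ℕ) :
    (g : Matrix F9 F9 F).mulVec (decV F ω x) = decV F ω (mulV c x) := by
  rw [decV_mulV hω (add_self_eq_zero' hF), ← h, dec_enc]

theorem inOrb_iff {k x : ℕ} : inOrb k x = true ↔ x ∈ baseOrb k := by
  simp only [inOrb, forceNat_eq, List.any_eq_true]
  exact ⟨fun ⟨y, hy, e⟩ => (Nat.eq_of_beq_eq_true e) ▸ hy, fun h => ⟨x, h, Nat.beq_refl x⟩⟩

/-- The vectors of the monomial orbit. -/
def baseSet (F : Type*) [Field F] (ω : F) (k : ℕ) : Set (F9 → F) :=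
  {v | ∃ s ∈ baseOrb k, decV F ω s = v}

theorem baseSet_closed {k : ℕ} (hk : k < 2) {m : GL F9 F} (hm : m ∈ monGroup hF hω) :
    (m : Matrix F9 F9 F).mulVec (baseVec F ω k) ∈ baseSet F ω k := by
  obtain ⟨h1, -, -, h4⟩ := orbit_checks k hk
  suffices h : ∀ v ∈ baseSet F ω k, (m : Matrix F9 F9 F).mulVec v ∈ baseSet F ω k ∧
      ((m⁻¹ : GL F9 F) : Matrix F9 F9 F).mulVec v ∈ baseSet F ω k by
    refine (h _ ?_).1
    obtain ⟨y, hy, e⟩ := List.any_eq_true.mp h1
    exact ⟨y, hy, by rw [baseVec, Nat.eq_of_beq_eq_true e]⟩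
  induction hm using Subgroup.closure_induction with
  | mem g hg =>
    rintro v ⟨s, hs, rfl⟩
    obtain ⟨p, hp, hg⟩ := hg
    obtain ⟨g', -, g1, g2⟩ := gensOK_mon hF hω p hp
    obtain rfl := (C).inj (hg.trans g1.symm)
    have h := List.all_eq_true.mp (List.all_eq_true.mp h4 p hp) _ hs
    rw [Bool.and_eq_true, inOrb_iff, inOrb_iff] at h
    exact ⟨⟨_, h.1, (mulV_spec hF hω g1 s).symm⟩, ⟨_, h.2, (mulV_spec hF hω g2 s).symm⟩⟩
  | one => intro v hv; simp [hv]
  | mul a b _ _ ha hb =>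
    intro v hv
    refine ⟨?_, ?_⟩
    · rw [Units.val_mul, ← Matrix.mulVec_mulVec]; exact (ha _ (hb v hv).1).1
    · rw [mul_inv_rev, Units.val_mul, ← Matrix.mulVec_mulVec]; exact (hb _ (ha v hv).2).2
  | inv a _ ha =>
    intro v hv
    exact ⟨(ha v hv).2, by rw [inv_inv]; exact (ha v hv).1⟩

/-- The monomial elements fixing the base vector. -/
def monFixSet (k : ℕ) : Set (GL F9 F) :=
  {m | m ∈ monGroup hF hω ∧ (m : Matrix F9 F9 F).mulVec (baseVec F ω k) = baseVec F ω k}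

theorem ncard_monFixSet_le {k : ℕ} (hk : k < 2) : (monFixSet hF hω k).ncard ≤ monFix k := by
  have hx : basePt k < 2 ^ 18 := Nat.blt_eq.mp (orbit_checks k hk).2.1
  have hsub : ((C).enc '' monFixSet hF hω k) ⊆
      ↑((elems jOps Data.monChain).filter
        fun m => Nat.beq (mulV m (basePt k)) (basePt k)).toFinset := by
    rintro _ ⟨m, ⟨hm, hc⟩, rfl⟩
    rw [Finset.mem_coe, List.mem_toFinset, List.mem_filter]
    refine ⟨enc_mem_elems C (gensOK_mon hF hω) mon_checks.2.1 hm, ?_⟩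
    have : mulV ((C).enc m) (basePt k) = basePt k :=
      decV_inj hω (add_self_eq_zero' hF) (mulV_lt _ _) hx
        (by rw [← mulV_spec hF hω rfl]; exact hc)
    rw [this]
    exact Nat.beq_refl _
  have h := Set.ncard_le_ncard hsub (Finset.finite_toSet _)
  rw [Set.ncard_image_of_injective _ (C).inj, Set.ncard_coe_finset] at h
  refine h.trans ((List.toFinset_card_le _).trans ?_)
  rw [← List.countP_eq_length_filter]
  exact le_rfl

/-- The pairs of monomial elements attached to a representative. -/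
def hitSet (k j : ℕ) : Set (GL F9 F × GL F9 F) :=
  {q | q.1 ∈ monGroup hF hω ∧ q.2 ∈ monGroup hF hω ∧
    (rep hF hω j : Matrix F9 F9 F).mulVec ((q.2 : Matrix F9 F9 F).mulVec (baseVec F ω k)) =
      ((q.1⁻¹ : GL F9 F) : Matrix F9 F9 F).mulVec (baseVec F ω k)}

theorem ncard_hitSet_le {k : ℕ} (hk : k < 2) (j : ℕ) :
    (hitSet hF hω k j).ncard ≤ hitCount k j * (monFix k * monFix k) := by
  classical
  obtain ⟨-, -, hlt, -⟩ := orbit_checks k hk
  have hfin : (hitSet hF hω k j).Finite := Set.toFinite _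
  rw [Set.ncard_eq_toFinset_card _ hfin]
  let fv : GL F9 F × GL F9 F → (F9 → F) := fun q =>
    (q.2 : Matrix F9 F9 F).mulVec (baseVec F ω k)
  have himg : hfin.toFinset.image fv ⊆
      (((baseOrb k).filter fun s => inOrb k (mulV (repAt j).1 s)).toFinset).image
        (decV F ω) := by
    intro v hv
    obtain ⟨q, hq, rfl⟩ := Finset.mem_image.mp hv
    rw [Set.Finite.mem_toFinset] at hq
    obtain ⟨h1, h2, h3⟩ := hq
    obtain ⟨s, hs, e⟩ := baseSet_closed hF hω hk h2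
    refine Finset.mem_image.mpr ⟨s, ?_, e⟩
    rw [List.mem_toFinset, List.mem_filter, inOrb_iff]
    refine ⟨hs, ?_⟩
    rw [← e, mulV_spec hF hω (rep_enc hF hω j).1] at h3
    obtain ⟨r, hr, e'⟩ := baseSet_closed hF hω hk (inv_mem h1)
    rw [← e'] at h3
    rw [decV_inj hω (add_self_eq_zero' hF) (mulV_lt _ _)
      (Nat.blt_eq.mp (List.all_eq_true.mp hlt r hr)) h3]
    exact hr
  have hfib : ∀ v ∈ hfin.toFinset.image fv,
      (hfin.toFinset.filter fun q => fv q = v).card ≤ monFix k * monFix k := by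
    intro v hv
    obtain ⟨q0, hq0, rfl⟩ := Finset.mem_image.mp hv
    rw [Set.Finite.mem_toFinset] at hq0
    obtain ⟨a1, a2, a3⟩ := hq0
    refine le_trans ?_ (Nat.mul_le_mul (ncard_monFixSet_le hF hω hk) (ncard_monFixSet_le hF hω hk))
    rw [← Set.ncard_prod, ← Set.ncard_coe_finset]
    refine Set.ncard_le_ncard_of_injOn (fun q => (q.1 * q0.1⁻¹, q0.2⁻¹ * q.2)) ?_ ?_ (Set.toFinite _)
    · intro q hq
      rw [Finset.mem_coe, Finset.mem_filter, Set.Finite.mem_toFinset] at hq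
      obtain ⟨⟨b1, b2, b3⟩, e⟩ := hq
      have e2 : (q.2 : Matrix F9 F9 F).mulVec (baseVec F ω k) =
          (q0.2 : Matrix F9 F9 F).mulVec (baseVec F ω k) := e
      have e1 : ((q0.1⁻¹ : GL F9 F) : Matrix F9 F9 F).mulVec (baseVec F ω k) =
          ((q.1⁻¹ : GL F9 F) : Matrix F9 F9 F).mulVec (baseVec F ω k) := by rw [← a3, ← b3, e2]
      refine Set.mk_mem_prod ⟨mul_mem b1 (inv_mem a1), ?_⟩ ⟨mul_mem (inv_mem a2) b2, ?_⟩
      · rw [Units.val_mul, ← Matrix.mulVec_mulVec, e1, Matrix.mulVec_mulVec, Units.mul_inv,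
          Matrix.one_mulVec]
      · rw [Units.val_mul, ← Matrix.mulVec_mulVec, e2, Matrix.mulVec_mulVec, Units.inv_mul,
          Matrix.one_mulVec]
    · intro a _ b _ e
      exact Prod.ext (mul_right_cancel (congrArg Prod.fst e)) (mul_left_cancel (congrArg Prod.snd e))
  refine (Finset.card_le_mul_card_image _ _ hfib).trans ?_
  rw [mul_comm (hitCount k j)]
  refine Nat.mul_le_mul_left _ ((Finset.card_le_card himg).trans ?_)
  refine Finset.card_image_le.trans ((List.toFinset_card_le _).trans ?_)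
  rw [hitCount, List.countP_eq_length_filter]

/-- The elements fixing the base vector in one double coset. -/
def fixPart (k j : ℕ) : Set (GL F9 F) :=
  {g | (g : Matrix F9 F9 F).mulVec (baseVec F ω k) = baseVec F ω k ∧
    (g : GL F9 F ⧸ monGroup hF hω) ∈ MulAction.orbit ↥(monGroup hF hω) (pnt hF hω j)}

theorem ncard_fixPart_le {k j : ℕ} (hk : k < 2) (hj : j < 20) :
    (fixPart hF hω k j).ncard ≤
      hitCount k j * (monFix k * monFix k) / chainSize (Data.stabs.getD j ([], [])).2 := by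
  have h := List.all_eq_true.mp rep_checks.2.2.2.2 j (List.mem_range.mpr hj)
  simp only [stabOK, Bool.and_eq_true, List.all_eq_true] at h
  obtain ⟨hch, hkk⟩ := h
  set S := genGroup C (Data.stabs.getD j ([], [])).1 with hS'
  have hS : GensOK C (Data.stabs.getD j ([], [])).1 := fun p hp =>
    PairOK.mono C le_top (inMon_spec hF hω (hkk p hp).1)
  have hle : S ≤ monGroup hF hω ⊓
      (monGroup hF hω).comap (MulAut.conj (rep hF hω j)⁻¹).toMonoidHom := by
    refine (Subgroup.closure_le _).2 ?_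
    rintro g ⟨p, hp, hg⟩
    obtain ⟨g', hg', h1, -⟩ := inMon_spec hF hω (hkk p hp).1
    obtain rfl := (C).inj (hg.trans h1.symm)
    refine ⟨hg', ?_⟩
    show (rep hF hω j)⁻¹ * g * (rep hF hω j)⁻¹⁻¹ ∈ monGroup hF hω
    rw [inv_inv]
    refine mem_mon_of_sift hF hω ?_
    rw [mul_assoc, el_mulC hF hω (rep_enc hF hω j).2 (el_mulC hF hω hg (rep_enc hF hω j).1)]
    exact (hkk p hp).2
  have hcard : Nat.card ↥S = chainSize (Data.stabs.getD j ([], [])).2 := card_genGroup C hS hch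
  rw [Nat.le_div_iff_mul_le (hcard ▸ Nat.card_pos), ← hcard]
  show _ * Nat.card ↥(S : Set (GL F9 F)) ≤ _
  rw [Nat.card_coe_set_eq, ← Set.ncard_prod]
  refine le_trans ?_ (ncard_hitSet_le hF hω hk j)
  have hdec : ∀ g ∈ fixPart hF hω k j, ∃ m ∈ monGroup hF hω,
      (rep hF hω j)⁻¹ * m⁻¹ * g ∈ monGroup hF hω := by
    rintro g ⟨-, ⟨m, hm⟩⟩
    refine ⟨m.1, m.2, ?_⟩
    have hm' : ((m.1 * rep hF hω j : GL F9 F) : GL F9 F ⧸ monGroup hF hω) = g := hm
    rw [QuotientGroup.eq] at hm'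
    rwa [mul_inv_rev] at hm'
  choose! μ hμ1 hμ2 using hdec
  refine Set.ncard_le_ncard_of_injOn
    (fun q => (μ q.1 * q.2,
      (rep hF hω j)⁻¹ * q.2⁻¹ * rep hF hω j * ((rep hF hω j)⁻¹ * (μ q.1)⁻¹ * q.1))) ?_ ?_
    (Set.toFinite _)
  · rintro ⟨g, x⟩ ⟨hg, hx⟩
    obtain ⟨x1, x2⟩ := hle hx
    have x2' : (rep hF hω j)⁻¹ * x * (rep hF hω j)⁻¹⁻¹ ∈ monGroup hF hω := x2
    rw [inv_inv] at x2'
    refine ⟨mul_mem (hμ1 g hg) x1, mul_mem ?_ (hμ2 g hg), ?_⟩
    · simpa [mul_assoc] using inv_mem x2'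
    · rw [Matrix.mulVec_mulVec, ← Units.val_mul,
        show rep hF hω j *
          ((rep hF hω j)⁻¹ * x⁻¹ * rep hF hω j * ((rep hF hω j)⁻¹ * (μ g)⁻¹ * g)) =
          (μ g * x)⁻¹ * g by group,
        Units.val_mul, ← Matrix.mulVec_mulVec, hg.1]
  · rintro ⟨g, x⟩ - ⟨g', x'⟩ - e
    obtain ⟨e1, e2⟩ := Prod.mk.injEq _ _ _ _ ▸ e
    have hg : ∀ a b : GL F9 F, (a * b) * rep hF hω j *
        ((rep hF hω j)⁻¹ * b⁻¹ * rep hF hω j * ((rep hF hω j)⁻¹ * a⁻¹ * g)) = g := by
      intro a b; group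
    have hg' : (μ g' * x') * rep hF hω j *
        ((rep hF hω j)⁻¹ * x'⁻¹ * rep hF hω j * ((rep hF hω j)⁻¹ * (μ g')⁻¹ * g')) = g' := by
      group
    have hgg : g = g' := by rw [← hg (μ g) x, e1, e2, hg']
    subst hgg
    exact Prod.ext rfl (mul_left_cancel e1)

/-- The stabiliser of the base vector. -/
def vecStab (F : Type*) [Field F] [Fintype F] (ω : F) (k : ℕ) : Subgroup ↥(threeJ3 F ω) where
  carrier := {g | (g.1 : Matrix F9 F9 F).mulVec (baseVec F ω k) = baseVec F ω k}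
  one_mem' := by simp
  mul_mem' := by
    intro a b ha hb
    rw [Set.mem_setOf_eq] at ha hb ⊢
    rw [Subgroup.coe_mul, Units.val_mul, ← Matrix.mulVec_mulVec, hb, ha]
  inv_mem' := by
    intro a ha
    rw [Set.mem_setOf_eq] at ha ⊢
    conv_lhs => rw [← ha]
    rw [Matrix.mulVec_mulVec, InvMemClass.coe_inv, Units.inv_mul, Matrix.one_mulVec]

include hF hω in
theorem card_vecStab_le {k : ℕ} (hk : k < 2) :
    Nat.card ↥(vecStab F ω k) ≤ fixBound k (monFix k) := by
  rw [← Subgroup.card_map_of_injective (threeJ3 F ω).subtype_injective]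
  rw [← SetLike.coe_sort_coe, Nat.card_coe_set_eq]
  have hsub : ((vecStab F ω k).map (threeJ3 F ω).subtype : Set (GL F9 F)) ⊆
      ⋃ j : Fin 20, fixPart hF hω k j.val := by
    rintro _ ⟨⟨g, hg⟩, hc, rfl⟩
    have horb : (g : GL F9 F ⧸ monGroup hF hω) ∈ cosetUnion hF hω := by
      refine orbit_subset hF hω ⟨⟨g, hg⟩, ?_⟩
      show g • pnt hF hω 0 = _
      rw [one_pnt, MulAction.Quotient.smul_coe, smul_eq_mul, mul_one]
    obtain ⟨j, hj⟩ := Set.mem_iUnion.mp horb
    exact Set.mem_iUnion.mpr ⟨j, hc, hj⟩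
  refine (Set.ncard_le_ncard hsub (Set.toFinite _)).trans
    ((Set.ncard_iUnion_le_of_fintype _).trans ?_)
  refine (Finset.sum_le_sum fun j _ => ncard_fixPart_le hF hω hk j.isLt).trans (le_of_eq ?_)
  rw [fixBound, Fin.sum_univ_eq_sum_range
    fun j => hitCount k j * (monFix k * monFix k) / chainSize (Data.stabs.getD j ([], [])).2]
  rfl

end Cfsg.Agent.Lib.JankoThree
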