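import Cfsg.Agent.Lib.JankoThree.AutChecks
import Cfsg.Agent.Lib.JankoThree.LineOrbit
import Mathlib.LinearAlgebra.Matrix.Charpoly.Minpoly
import Mathlib.RingTheory.AdjoinRoot
import Mathlib.FieldTheory.Finite.Basic
import Mathlib.RingTheory.RootsOfUnity.PrimitiveRoots

/-!
# The commutant of an element of order nineteen is a field
-/

set_option autoImplicit false

namespace Cfsg.Agent.Lib.JankoThree

open Cfsg.Spor Cfsg.Agent.Lib.Compute Polynomial

theorem getP_xor (a b i : ℕ) : getP 18 (a ^^^ b) i = getP 18 a i ^^^ getP 18 b i := by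
  rw [getP_eq, getP_eq, getP_eq, ← Nat.shiftRight_eq_div_pow, ← Nat.shiftRight_eq_div_pow,
    ← Nat.shiftRight_eq_div_pow, ← Nat.and_two_pow_sub_one_eq_mod,
    ← Nat.and_two_pow_sub_one_eq_mod, ← Nat.and_two_pow_sub_one_eq_mod, Nat.shiftRight_xor_distrib,
    Nat.and_xor_distrib_right]

variable {F : Type*} [Field F] [Fintype F] {ω : F} (hF : Fintype.card F = 4)
  (hω : ω ^ 2 + ω + 1 = 0)

local notation "C'" => jCoding hF hω

theorem dec_xor (h2 : ∀ a : F, a + a = 0) (a b : ℕ) :
    dec F ω (a ^^^ b) = dec F ω a + dec F ω b := by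
  ext w z
  simp only [dec, Matrix.of_apply, Matrix.add_apply, getP_xor, decV_xor h2, Pi.add_apply]

/-- The element of order nineteen. -/
noncomputable def xG : GL F9 F := el hF hω DataAut.xP.1

theorem xG_spec : xG hF hω ∈ threeJ3 F ω ∧ (C').enc (xG hF hω) = DataAut.xP.1 ∧
    (C').enc (xG hF hω)⁻¹ = DataAut.xP.2 := by
  obtain ⟨g, -, g1, g2⟩ := pairOK_of_pairInv hF hω x_checks.1
  have hg := (memC_spec hF hω (g1.symm ▸ x_checks.2.1)).1
  rw [xG, el_eq hF hω g1]
  exact ⟨hg, g1, g2⟩

theorem xG_pow : xG hF hω ^ 19 = 1 :=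
  (C').inj (by rw [← powC_enc, (xG_spec hF hω).2.1, (C').one_enc, jOps_one,
    Nat.eq_of_beq_eq_true x_checks.2.2.1])

/-- Its matrix. -/
noncomputable def xM : Matrix F9 F9 F := ((xG hF hω : GL F9 F) : Matrix F9 F9 F)

/-- The images of the unit vector under its powers. -/
noncomputable def kryM : Matrix F9 F9 F := dec F ω DataAut.krylov.1

/-- The inverse. -/
noncomputable def kryI : Matrix F9 F9 F := dec F ω DataAut.krylov.2

include hω in
theorem kry_mul (hF : Fintype.card F = 4) : kryM (F := F) (ω := ω) * kryI (F := F) (ω := ω) = 1 := by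
  rw [kryM, kryI, ← dec_mulC hω (add_self_eq_zero' hF), Nat.eq_of_beq_eq_true x_checks.2.2.2.2.2.2.2.2.2,
    dec_oneC]

theorem kry_col (z : F9) :
    (fun w => kryM (F := F) (ω := ω) w z) = (xM hF hω ^ ix z).mulVec (baseVec F ω 0) := by
  have h := Nat.eq_of_beq_eq_true (x_checks.2.2.2.2.2.2.2.2.1 (ix z) (ix_lt z))
  rw [← (xG_spec hF hω).2.1, powC_enc] at h
  rw [xM, ← Units.val_pow_eq_pow_val, baseVec, Nat.eq_of_beq_eq_true stab_vec_checks.2.2.2.2.2.2.1,
    mulV_spec hF hω rfl, ← h]
  rfl

/-- The polynomial attached to a matrix. -/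
noncomputable def polyOf (g : Matrix F9 F9 F) (ω : F) : F[X] :=
  ∑ z : F9, Polynomial.C ((kryI (F := F) (ω := ω)).mulVec (g.mulVec (baseVec F ω 0)) z) * X ^ ix z

theorem aeval_polyOf {g : Matrix F9 F9 F} (hg : g * xM hF hω = xM hF hω * g) :
    aeval (xM hF hω) (polyOf g ω) = g := by
  set P := aeval (xM hF hω) (polyOf g ω) with hP
  have hPe : P.mulVec (baseVec F ω 0) = g.mulVec (baseVec F ω 0) := by
    set a := (kryI (F := F) (ω := ω)).mulVec (g.mulVec (baseVec F ω 0)) with ha
    have e : g.mulVec (baseVec F ω 0) = (kryM (F := F) (ω := ω)).mulVec a := by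
      rw [ha, Matrix.mulVec_mulVec, kry_mul hω hF, Matrix.one_mulVec]
    rw [e, hP, polyOf, map_sum, Matrix.sum_mulVec]
    funext w
    rw [Finset.sum_apply]
    simp only [Matrix.mulVec, dotProduct]
    refine Finset.sum_congr rfl fun z _ => ?_
    rw [map_mul, aeval_C, map_pow, aeval_X, ← Algebra.smul_def]
    show ((a z • xM hF hω ^ ix z).mulVec (baseVec F ω 0)) w = _
    rw [Matrix.smul_mulVec, Pi.smul_apply, smul_eq_mul, ← kry_col hF hω z, mul_comm]
  have hcomm : ∀ n, P * xM hF hω ^ n = xM hF hω ^ n * P := fun n => by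
    rw [hP, ← aeval_X (R := F) (xM hF hω), ← map_pow, aeval_X, ← map_mul, ← map_mul, mul_comm]
  have hK : P * kryM (F := F) (ω := ω) = g * kryM (F := F) (ω := ω) := by
    ext w z
    have hgx : Commute g (xM hF hω ^ ix z) := (show Commute g (xM hF hω) from hg).pow_right _
    show (P.mulVec fun w => kryM (F := F) (ω := ω) w z) w =
      (g.mulVec fun w => kryM (F := F) (ω := ω) w z) w
    rw [kry_col hF hω z, Matrix.mulVec_mulVec, Matrix.mulVec_mulVec, hcomm, hgx.eq,
      ← Matrix.mulVec_mulVec, hPe, Matrix.mulVec_mulVec]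
  have := congrArg (fun A => A * kryI (F := F) (ω := ω)) hK
  simpa only [Matrix.mul_assoc, kry_mul hω hF, Matrix.mul_one] using this

include hF hω in
theorem minpoly_irreducible :
    Irreducible (minpoly F (xM hF hω)) ∧ (minpoly F (xM hF hω)).natDegree = 9 := by
  classical
  set x := xM hF hω
  set μ := minpoly F x with hμ
  have hint : IsIntegral F x := Algebra.IsIntegral.isIntegral x
  have hmon := minpoly.monic hint
  have hdeg : μ.natDegree ≤ 9 := by
    refine (Polynomial.natDegree_le_of_dvd (Matrix.minpoly_dvd_charpoly x)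
      (Matrix.charpoly_monic x).ne_zero).trans (le_of_eq ?_)
    rw [Matrix.charpoly_natDegree_eq_dim]
    rfl
  have h19 : μ ∣ X ^ 19 - 1 := minpoly.dvd F x (by
    rw [map_sub, map_pow, aeval_X, map_one, sub_eq_zero]
    exact (Units.val_pow_eq_pow_val (xG hF hω) 19).symm.trans (by rw [xG_pow]; rfl))
  obtain ⟨p, hp, hpμ⟩ := WfDvdMonoid.exists_irreducible_factor (minpoly.not_isUnit F x) hmon.ne_zero
  haveI : Fact (Irreducible p) := ⟨hp⟩
  set K := AdjoinRoot p
  haveI : Module.Finite F K := (AdjoinRoot.powerBasis hp.ne_zero).finite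
  haveI : Finite K := Module.finite_of_finite F
  letI : Fintype K := Fintype.ofFinite K
  have hcard : Fintype.card K = 4 ^ p.natDegree := by
    rw [← Nat.card_eq_fintype_card, Module.natCard_eq_pow_finrank (K := F),
      (AdjoinRoot.powerBasis hp.ne_zero).finrank, AdjoinRoot.powerBasis_dim,
      Nat.card_eq_fintype_card, hF]
  set α := AdjoinRoot.root p
  have hα : ∀ q : F[X], p ∣ q → aeval α q = 0 := fun q hq => by
    rw [AdjoinRoot.aeval_eq, AdjoinRoot.mk_eq_zero]; exact hq
  have hα19 : α ^ 19 = 1 := by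
    have := hα _ (hpμ.trans h19)
    rwa [map_sub, map_pow, aeval_X, map_one, sub_eq_zero] at this
  have hα1 : α ≠ 1 := by
    intro h1
    have he : μ.eval 1 = 0 := by
      have := hα μ hpμ
      rw [h1, ← map_one (algebraMap F K), aeval_algebraMap_apply, Polynomial.coe_aeval_eq_eval] at this
      exact (algebraMap F K).injective (this.trans (map_zero _).symm)
    obtain ⟨q, hq⟩ := dvd_iff_isRoot.mpr he
    have hx : dec F ω DataAut.xmP.1 = x - 1 := by
      have e2 := add_self_eq_zero' hF
      rw [← Nat.eq_of_beq_eq_true x_checks.2.2.2.2.2.2.1]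
      show dec F ω (DataAut.xP.1 ^^^ oneC) = _
      rw [dec_xor e2, dec_oneC, ← (xG_spec hF hω).2.1, dec_enc]
      ext i j
      show _ = x i j - (1 : Matrix F9 F9 F) i j
      rw [Matrix.add_apply, sub_eq_add_neg, neg_eq_of_add_eq_zero_left (e2 _)]
      rfl
    have hinv : dec F ω DataAut.xmP.2 * (x - 1) = 1 := by
      refine mul_eq_one_comm.mp ?_
      rw [← hx, ← dec_mulC hω (add_self_eq_zero' hF),
        Nat.eq_of_beq_eq_true x_checks.2.2.2.2.2.2.2.1, dec_oneC]
    have hq0 : aeval x q = 0 := by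
      have h0 : (x - 1) * aeval x q = 0 := by
        have := minpoly.aeval F x
        rw [← hμ, hq, map_mul, map_sub, aeval_X, aeval_C, map_one] at this
        exact this
      calc aeval x q = dec F ω DataAut.xmP.2 * (x - 1) * aeval x q := by rw [hinv, one_mul]
        _ = 0 := by rw [mul_assoc, h0, mul_zero]
    have hqne : q ≠ 0 := fun e => hmon.ne_zero (hq.trans (by rw [e, mul_zero]))
    have := Polynomial.natDegree_le_of_dvd (minpoly.dvd F x hq0) hqne
    rw [← hμ, hq, Polynomial.natDegree_mul (X_sub_C_ne_zero _) hqne, natDegree_X_sub_C] at this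
    omega
  have hα0 : α ≠ 0 := by intro h; rw [h] at hα19; simp at hα19
  haveI : Fact (Nat.Prime 19) := ⟨by norm_num⟩
  have hdiv : 19 ∣ 4 ^ p.natDegree - 1 := by
    rw [← hcard, ← orderOf_eq_prime hα19 hα1]
    exact orderOf_dvd_of_pow_eq_one (FiniteField.pow_card_sub_one_eq_one α hα0)
  have hp9 : p.natDegree ≤ μ.natDegree := Polynomial.natDegree_le_of_dvd hpμ hmon.ne_zero
  have hall : ∀ d ≤ 9, 19 ∣ 4 ^ d - 1 → d = 0 ∨ d = 9 := by decide
  have hd : p.natDegree = 9 :=
    (hall _ (hp9.trans hdeg) hdiv).resolve_left hp.natDegree_pos.ne'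
  refine ⟨(associated_of_dvd_of_natDegree_le hpμ hmon.ne_zero (by rw [hd]; exact hdeg)).irreducible hp, hμ ▸ le_antisymm hdeg (hd ▸ hp9)⟩

theorem fact_minpoly : Fact (Irreducible (minpoly F (xM hF hω))) :=
  ⟨(minpoly_irreducible hF hω).1⟩

/-- The field, mapped into the matrices. -/
noncomputable def toMat : AdjoinRoot (minpoly F (xM hF hω)) →+* Matrix F9 F9 F :=
  Ideal.Quotient.lift (Ideal.span {minpoly F (xM hF hω)})
    (Polynomial.aeval (xM hF hω)).toRingHom fun a ha => by
      obtain ⟨b, rfl⟩ := Ideal.mem_span_singleton.mp ha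
      show aeval (xM hF hω) (_ * b) = 0
      rw [map_mul, minpoly.aeval, zero_mul]

theorem toMat_mk (p : F[X]) :
    toMat hF hω (AdjoinRoot.mk (minpoly F (xM hF hω)) p) = aeval (xM hF hω) p := rfl

theorem toMat_injective : Function.Injective (toMat hF hω) := by
  haveI := fact_minpoly hF hω
  exact RingHom.injective _

/-- Every matrix commuting with the element comes from the field. -/
theorem exists_toMat {g : GL F9 F} (hg : g * xG hF hω = xG hF hω * g) :
    ∃ u, toMat hF hω u = (g : Matrix F9 F9 F) :=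
  ⟨AdjoinRoot.mk _ (polyOf (g : Matrix F9 F9 F) ω), by
    rw [toMat_mk, aeval_polyOf hF hω]
    exact congrArg Units.val hg⟩

theorem pow_eq_one_of_commute {g : GL F9 F} (hg : g * xG hF hω = xG hF hω * g) :
    g ^ 262143 = 1 := by
  haveI := fact_minpoly hF hω
  set K := AdjoinRoot (minpoly F (xM hF hω))
  have hne := (minpoly_irreducible hF hω).1.ne_zero
  haveI : Module.Finite F K := (AdjoinRoot.powerBasis hne).finite
  haveI : Finite K := Module.finite_of_finite F
  letI : Fintype K := Fintype.ofFinite K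
  have hcard : Fintype.card K = 262144 := by
    rw [← Nat.card_eq_fintype_card, Module.natCard_eq_pow_finrank (K := F),
      (AdjoinRoot.powerBasis hne).finrank, AdjoinRoot.powerBasis_dim, (minpoly_irreducible hF hω).2,
      Nat.card_eq_fintype_card, hF]
    norm_num
  obtain ⟨u, hu⟩ := exists_toMat hF hω hg
  have hu0 : u ≠ 0 := by
    intro h
    rw [h, map_zero] at hu
    exact g.ne_zero hu.symm
  have h := congrArg (toMat hF hω) (FiniteField.pow_card_sub_one_eq_one u hu0)
  rw [map_pow, hu, map_one, hcard] at h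
  exact Units.ext (by rw [Units.val_pow_eq_pow_val, Units.val_one]; exact h)

/-- Elements of the commutant with a given power equal to one are powers of a primitive one. -/
theorem exists_pow_of_commute {g c : GL F9 F} (hg : g * xG hF hω = xG hF hω * g)
    (hc : c * xG hF hω = xG hF hω * c) {n : ℕ} (hn : 0 < n) (ho : orderOf c = n) (hgn : g ^ n = 1) :
    ∃ i, c ^ i = g := by
  haveI := fact_minpoly hF hω
  obtain ⟨u, hu⟩ := exists_toMat hF hω hg
  obtain ⟨v, hv⟩ := exists_toMat hF hω hc
  have hord : orderOf v = n := by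
    rw [← orderOf_injective (toMat hF hω).toMonoidHom (toMat_injective hF hω) v]
    show orderOf (toMat hF hω v) = n
    rw [hv, orderOf_units, ho]
  haveI : NeZero n := ⟨hn.ne'⟩
  obtain ⟨i, -, hi⟩ := (hord ▸ IsPrimitiveRoot.orderOf v : IsPrimitiveRoot v n).eq_pow_of_pow_eq_one
    (toMat_injective hF hω (by rw [map_pow, hu, map_one, ← Units.val_pow_eq_pow_val, hgn, Units.val_one]) :
      u ^ n = 1)
  refine ⟨i, Units.ext ?_⟩
  rw [Units.val_pow_eq_pow_val, ← hv, ← map_pow, hi, hu]

end Cfsg.Agent.Lib.JankoThree
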