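import Cfsg.Agent.Lib.JankoThree.Model
import Cfsg.Prelude.Def_Classical

/-!
# The triple cover of the third Janko group inside the special unitary group of dimension nine
-/

set_option autoImplicit false

namespace Cfsg.Agent.Lib.JankoThree

open Cfsg.Spor Cfsg.Agent.Lib.Compute

/-- The conjugate transpose of a code. -/
noncomputable def tcC (c : ℕ) : ℕ :=
  matCode fun z w =>
    ((getP 18 c (ix w)).testBit (ix z) ^^ (getP 18 c (ix w)).testBit (9 + ix z),
      (getP 18 c (ix w)).testBit (9 + ix z))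

theorem unitary_checks : ∀ i < 7, Nat.beq
    (mulC (tcC (genAt Data.gens jOps i).1) (genAt Data.gens jOps i).1) oneC = true := by
  decide +kernel

/-- The numbering of the indices. -/
def e9 : F9 ≃ Fin 9 :=
  ⟨fun z => ⟨ix z, ix_lt z⟩, fun i => pz i, fun z => pz_ix z, fun i => Fin.ext (ix_pz i.isLt)⟩

variable {F : Type*} [Field F] [Fintype F] {ω : F} (hF : Fintype.card F = 4)
  (hω : ω ^ 2 + ω + 1 = 0)

local notation "C" => jCoding hF hω

include hF in
theorem sq_sum {ι : Type*} (s : Finset ι) (f : ι → F) : (∑ i ∈ s, f i) ^ 2 = ∑ i ∈ s, f i ^ 2 := by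
  classical
  induction s using Finset.induction_on with
  | empty => simp
  | insert a s ha ih =>
    rw [Finset.sum_insert ha, Finset.sum_insert ha, ← ih]
    linear_combination add_self_eq_zero' hF (f a * ∑ i ∈ s, f i)

theorem phi_sq (h2 : ∀ a : F, a + a = 0) (hω' : ω ^ 2 + ω + 1 = 0) (p q : Bool) :
    phi F ω (p ^^ q) q = phi F ω p q ^ 2 := by
  cases p <;> cases q <;> simp [phi]
  · linear_combination (h2 (1 + ω)) - hω'
  · linear_combination -hω'

theorem dec_tcC (h2 : ∀ a : F, a + a = 0) (hω' : ω ^ 2 + ω + 1 = 0) (c : ℕ) (w z : F9) :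
    dec F ω (tcC c) w z = (dec F ω c z w) ^ 2 := by
  rw [tcC, dec_matCode]
  simp only [Matrix.of_apply, dec, decV]
  exact phi_sq h2 hω' _ _

/-- The matrices preserving the standard Hermitian form. -/
def unitaryGroup (hF : Fintype.card F = 4) : Subgroup (GL F9 F) where
  carrier := {g | ∀ u v : F9 → F,
    (∑ i, ((g : Matrix F9 F9 F).mulVec u) i * (((g : Matrix F9 F9 F).mulVec v) i) ^ 2) =
      ∑ i, u i * v i ^ 2}
  one_mem' := by intro u v; simp
  mul_mem' := by
    intro a b ha hb u v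
    rw [Units.val_mul, ← Matrix.mulVec_mulVec, ← Matrix.mulVec_mulVec, ha, hb]
  inv_mem' := by
    intro a ha u v
    rw [← ha, Matrix.mulVec_mulVec, Matrix.mulVec_mulVec, Units.mul_inv, Matrix.one_mulVec,
      Matrix.one_mulVec]

theorem gen_unitary {i : ℕ} (hi : i < 7) : gen hF hω i ∈ unitaryGroup hF := by
  have e := add_self_eq_zero' hF
  obtain ⟨-, g1, -⟩ := gen_spec hF hω i
  have hU : ∀ k l : F9, ∑ j, (gen hF hω i : Matrix F9 F9 F) j k * (gen hF hω i : Matrix F9 F9 F) j l ^ 2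
      = if l = k then 1 else 0 := by
    intro k l
    have h := congrArg (dec F ω) (Nat.eq_of_beq_eq_true (unitary_checks i hi))
    rw [dec_mulC hω e, dec_oneC, ← g1, dec_enc] at h
    have := congrFun (congrFun h l) k
    rw [Matrix.mul_apply, Matrix.one_apply] at this
    rw [← this]
    refine Finset.sum_congr rfl fun j _ => ?_
    rw [dec_tcC e hω, dec_enc, mul_comm]
  intro u v
  have step : ∀ j, ((gen hF hω i : Matrix F9 F9 F).mulVec u) j *
      ((gen hF hω i : Matrix F9 F9 F).mulVec v) j ^ 2 =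
      ∑ k, ∑ l, u k * v l ^ 2 * ((gen hF hω i : Matrix F9 F9 F) j k * (gen hF hω i : Matrix F9 F9 F) j l ^ 2) := by
    intro j
    simp only [Matrix.mulVec, dotProduct]
    rw [sq_sum hF, Finset.sum_mul_sum]
    exact Finset.sum_congr rfl fun k _ => Finset.sum_congr rfl fun l _ => by ring
  simp only [step]
  rw [Finset.sum_comm]
  refine Finset.sum_congr rfl fun k _ => ?_
  rw [Finset.sum_comm]
  simp only [← Finset.mul_sum, hU, mul_ite, mul_one, mul_zero, Finset.sum_ite_eq', Finset.mem_univ,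
    if_true]

theorem threeJ3_le_unitary (hω' : ω ^ 2 + ω + 1 = 0) : threeJ3 F ω ≤ unitaryGroup hF := by
  refine threeJ3_le hF hω' ?_ (gen_unitary hF hω' (i := 6) (by norm_num))
  refine (Subgroup.closure_le _).2 ?_
  rintro g ⟨p, hp, hg⟩
  obtain ⟨i, hi, rfl⟩ := List.mem_iff_getElem.mp hp
  have hi6 : i < 6 := trans_checks.2.2.2.2 ▸ hi
  have : g = gen hF hω' i := (jCoding hF hω').inj (by
    rw [(gen_spec hF hω' i).2.1, hg, genAt,
      List.getD_eq_getElem _ _ (by rw [mon_checks.2.2.2.2]; omega)]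
    simp [mon_checks.2.2.2.1])
  rw [this]
  exact gen_unitary hF hω' (by omega)

include hF hω in
theorem det_eq_one {g : GL F9 F} (hg : g ∈ threeJ3 F ω) : (g : Matrix F9 F9 F).det = 1 := by
  let δ : ↥(threeJ3 F ω) →* F := {
    toFun := fun x => (x.1 : Matrix F9 F9 F).det
    map_one' := by simp
    map_mul' := fun x y => by simp }
  have hA : ∀ a b : ZMod 3, a = 0 ∨ b = 0 → (j3A F ω (a, b)).det = 1 := by
    intro a b hab
    rw [j3A, Matrix.det_diagonal]
    show ∏ z : F9, ω ^ (a * z.1 + b * z.2).val = 1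
    rw [Finset.prod_pow_eq_pow_sum]
    have : ∀ a b : ZMod 3, (∑ z : F9, (a * z.1 + b * z.2).val) % 3 = 0 := by decide +kernel
    obtain ⟨c, hc⟩ := Nat.dvd_of_mod_eq_zero (this a b)
    rw [hc, pow_mul, (omega_ne hF hω).2.2.2.2, one_pow]
  have h0 : gA hF hω 0 ∈ δ.ker := by
    refine MonoidHom.mem_ker.mpr (Eq.trans (b := (gen hF hω 0 : Matrix F9 F9 F).det) (by simp only [δ, gA, MonoidHom.coe_mk, OneHom.coe_mk]) ?_)
    rw [(gen_A hF hω).1]; exact hA _ _ (Or.inr rfl)
  have h1 : gA hF hω 1 ∈ δ.ker := by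
    refine MonoidHom.mem_ker.mpr (Eq.trans (b := (gen hF hω 1 : Matrix F9 F9 F).det) (by simp only [δ, gA, MonoidHom.coe_mk, OneHom.coe_mk]) ?_)
    rw [(gen_A hF hω).2]; exact hA _ _ (Or.inl rfl)
  have := normal_top_of_gens hF hω δ.normal_ker h0 h1
  have hm : (⟨g, hg⟩ : ↥(threeJ3 F ω)) ∈ δ.ker := by rw [this]; exact Subgroup.mem_top _
  simpa only [δ, MonoidHom.mem_ker, MonoidHom.coe_mk, OneHom.coe_mk] using hm

/-- The embedding. -/
noncomputable def toSL : ↥(threeJ3 F ω) →* Matrix.SpecialLinearGroup (Fin 9) F where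
  toFun g := ⟨Matrix.reindex e9 e9 (g.1 : Matrix F9 F9 F), by
    rw [Matrix.det_reindex_self]; exact det_eq_one hF hω g.2⟩
  map_one' := Subtype.ext (by simp)
  map_mul' g h := Subtype.ext (by
    show Matrix.reindex e9 e9 ((g.1 : Matrix F9 F9 F) * (h.1 : Matrix F9 F9 F)) = _
    simp only [Matrix.reindex_apply, Matrix.SpecialLinearGroup.coe_mul]
    exact (Matrix.submatrix_mul_equiv _ _ _ e9.symm _).symm)

theorem toSL_injective : Function.Injective (toSL hF hω) := fun g h e => by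
  have := congrArg Subtype.val e
  exact Subtype.ext (Units.ext ((Matrix.reindex e9 e9).injective this))

theorem toSL_mem_SU (g : ↥(threeJ3 F ω)) : toSL hF hω g ∈ Cfsg.SU 9 F 2 := by
  intro u v
  show Cfsg.hermForm 9 F 2 ((Matrix.reindex e9 e9 (g.1 : Matrix F9 F9 F)).mulVec u)
    ((Matrix.reindex e9 e9 (g.1 : Matrix F9 F9 F)).mulVec v) = Cfsg.hermForm 9 F 2 u v
  simp only [Cfsg.hermForm, Matrix.reindex_apply, Matrix.submatrix_mulVec_equiv, Function.comp_apply,
    Equiv.symm_symm]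
  rw [← Equiv.sum_comp e9 (fun i => u i * v i ^ 2)]
  refine (Equiv.sum_comp e9.symm (fun z => (g.1 : Matrix F9 F9 F).mulVec (u ∘ e9) z *
    (g.1 : Matrix F9 F9 F).mulVec (v ∘ e9) z ^ 2)).trans ?_
  exact threeJ3_le_unitary hF hω g.2 (u ∘ e9) (v ∘ e9)

include hF hω in
theorem exists_sub_SU : ∃ H : Subgroup (Cfsg.SU 9 F 2), Nat.card (Subgroup.center H) = 3 ∧
    Nonempty (H ⧸ Subgroup.center H ≃* J3 F ω) := by
  let f : ↥(threeJ3 F ω) →* ↥(Cfsg.SU 9 F 2) := (toSL hF hω).codRestrict _ (toSL_mem_SU hF hω)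
  have hf : Function.Injective f := fun a b h => toSL_injective hF hω (congrArg Subtype.val h)
  let e := MonoidHom.ofInjective hf
  have hmap : (Subgroup.center ↥(threeJ3 F ω)).map e.toMonoidHom = Subgroup.center ↥f.range := by
    ext x
    rw [Subgroup.mem_map]
    constructor
    · rintro ⟨z, hz, rfl⟩
      refine Subgroup.mem_center_iff.mpr fun y => ?_
      obtain ⟨w, rfl⟩ := e.surjective y
      show e w * e z = e z * e w
      rw [← map_mul, ← map_mul, Subgroup.mem_center_iff.mp hz w]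
    · intro hx
      obtain ⟨z, rfl⟩ := e.surjective x
      refine ⟨z, Subgroup.mem_center_iff.mpr fun w => e.injective ?_, rfl⟩
      rw [map_mul, map_mul]
      exact Subgroup.mem_center_iff.mp hx (e w)
  refine ⟨f.range, ?_, ⟨(QuotientGroup.congr _ _ e hmap).symm⟩⟩
  rw [← hmap, Subgroup.card_map_of_injective (f := e.toMonoidHom) e.injective, card_center hF hω]

end Cfsg.Agent.Lib.JankoThree
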