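import Cfsg.Agent.Lib.JankoThree.AutNineteen
import Cfsg.Agent.Lib.JankoThree.Unitary
import Cfsg.Prelude.Def_KGroupFacts
import Mathlib.LinearAlgebra.Matrix.GeneralLinearGroup.Defs

/-!
# The outer automorphism of the third Janko group from the Galois twist
-/

set_option autoImplicit false

namespace Cfsg.Agent.Lib.JankoThree

open Cfsg.Spor Cfsg.Agent.Lib.Compute

variable {F : Type*} [Field F] [Fintype F] {ω : F} (hF : Fintype.card F = 4)
  (hω : ω ^ 2 + ω + 1 = 0)

local notation "C" => jCoding hF hω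

set_option quotPrecheck false in
local notation "π" => QuotientGroup.mk' (Subgroup.center ↥(threeJ3 F ω))

attribute [local irreducible] cS oneC

/-- Squaring as a ring endomorphism. -/
noncomputable def sqHom (hF : Fintype.card F = 4) : F →+* F where
  toFun a := a ^ 2
  map_one' := one_pow 2
  map_mul' a b := mul_pow a b 2
  map_zero' := zero_pow two_ne_zero
  map_add' a b := by linear_combination add_self_eq_zero' hF (a * b)

/-- The semilinear twist. -/
noncomputable def twistPG : GL F9 F := el hF hω DataAut.twistP.1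

theorem twistPG_spec : (C).enc (twistPG hF hω) = DataAut.twistP.1 ∧
    (C).enc (twistPG hF hω)⁻¹ = DataAut.twistP.2 := by
  obtain ⟨g, -, g1, g2⟩ := pairOK_of_pairInv hF hω twist_checks.1
  rw [twistPG, el_eq hF hω g1]
  exact ⟨g1, g2⟩

/-- The twisted conjugation. -/
noncomputable def twistGL : GL F9 F →* GL F9 F :=
  (MulAut.conj (twistPG hF hω)).toMonoidHom.comp (Matrix.GeneralLinearGroup.map (sqHom hF))

theorem galC_enc (g : GL F9 F) :
    (C).enc (Matrix.GeneralLinearGroup.map (sqHom hF) g) = galC ((C).enc g) := by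
  refine enc_eq_of_dec hF hω (by rw [galC]; exact isCode_matCode _) ?_
  rw [galC, dec_matCode]
  ext w z
  rw [Matrix.of_apply, phi_sq (add_self_eq_zero' hF) hω,
    show phi F ω ((getP 18 ((C).enc g) (ix z)).testBit (ix w))
      ((getP 18 ((C).enc g) (ix z)).testBit (9 + ix w)) = dec F ω ((C).enc g) w z from rfl, dec_enc]
  rfl

theorem twistGL_enc {g : GL F9 F} {c : ℕ} (h : (C).enc g = c) :
    (C).enc (twistGL hF hω g) = twistC c := by
  show (C).enc (twistPG hF hω * Matrix.GeneralLinearGroup.map (sqHom hF) g * (twistPG hF hω)⁻¹) = _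
  rw [mul_assoc, el_mulC hF hω (twistPG_spec hF hω).1
    (el_mulC hF hω (galC_enc hF hω g) (twistPG_spec hF hω).2), h, twistC, forceNat_eq]

theorem twistGL_mem {g : GL F9 F} (hg : g ∈ threeJ3 F ω) : twistGL hF hω g ∈ threeJ3 F ω := by
  refine (?_ : threeJ3 F ω ≤ (threeJ3 F ω).comap (twistGL hF hω)) hg
  have hgen : ∀ i < 7, gen hF hω i ∈ (threeJ3 F ω).comap (twistGL hF hω) := fun i hi => by
    show twistGL hF hω (gen hF hω i) ∈ threeJ3 F ω
    refine (memC_spec hF hω (e := DataAut.twistCerts.getD i (20, (oneC, oneC))) ?_).1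
    rw [twistGL_enc hF hω (gen_spec hF hω i).2.1]
    exact twist_checks.2.1 i hi
  refine threeJ3_le hF hω ((Subgroup.closure_le _).2 ?_) (hgen 6 (by norm_num))
  rintro g ⟨p, hp, hg⟩
  obtain ⟨i, hi, rfl⟩ := List.mem_iff_getElem.mp hp
  have hi6 : i < 6 := trans_checks.2.2.2.2 ▸ hi
  have : g = gen hF hω i := (C).inj (by
    rw [(gen_spec hF hω i).2.1, hg, genAt,
      List.getD_eq_getElem _ _ (by rw [mon_checks.2.2.2.2]; omega)]
    simp [mon_checks.2.2.2.1])
  rw [this]
  exact hgen i (by omega)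

theorem sqHom_sqHom (a : F) : sqHom hF (sqHom hF a) = a := by
  show (a ^ 2) ^ 2 = a
  rw [← pow_mul]
  have := FiniteField.pow_card a
  rwa [hF] at this

theorem twistGL_injective : Function.Injective (twistGL hF hω) := by
  intro a b h
  have h' := (MulAut.conj (twistPG hF hω)).injective h
  refine Units.ext ?_
  ext i j
  have := congrArg (fun g : GL F9 F => (g : Matrix F9 F9 F) i j) h'
  simp only [Matrix.GeneralLinearGroup.map_apply] at this
  rw [← sqHom_sqHom hF ((a : Matrix F9 F9 F) i j), this, sqHom_sqHom]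

/-- The automorphism of the cover. -/
noncomputable def twistT : ↥(threeJ3 F ω) ≃* ↥(threeJ3 F ω) :=
  MulEquiv.ofBijective
    (((twistGL hF hω).comp (threeJ3 F ω).subtype).codRestrict (threeJ3 F ω)
      fun g => twistGL_mem hF hω g.2)
    (by
      rw [← Finite.injective_iff_bijective]
      exact fun a b h => Subtype.ext (twistGL_injective hF hω (congrArg Subtype.val h)))

theorem twistT_val (g : ↥(threeJ3 F ω)) :
    ((twistT hF hω g : ↥(threeJ3 F ω)) : GL F9 F) = twistGL hF hω g.1 := rfl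

theorem twistT_center :
    (Subgroup.center ↥(threeJ3 F ω)).map (twistT hF hω).toMonoidHom =
      Subgroup.center ↥(threeJ3 F ω) := by
  ext x
  rw [Subgroup.mem_map]
  constructor
  · rintro ⟨z, hz, rfl⟩
    refine Subgroup.mem_center_iff.mpr fun y => ?_
    obtain ⟨w, rfl⟩ := (twistT hF hω).surjective y
    show twistT hF hω w * twistT hF hω z = twistT hF hω z * twistT hF hω w
    rw [← map_mul, ← map_mul, Subgroup.mem_center_iff.mp hz w]
  · intro hx
    obtain ⟨z, rfl⟩ := (twistT hF hω).surjective x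
    refine ⟨z, Subgroup.mem_center_iff.mpr fun w => (twistT hF hω).injective ?_, rfl⟩
    rw [map_mul, map_mul]
    exact Subgroup.mem_center_iff.mp hx (twistT hF hω w)

/-- The outer automorphism. -/
noncomputable def twistJ : MulAut (J3 F ω) :=
  QuotientGroup.congr (Subgroup.center ↥(threeJ3 F ω)) (Subgroup.center ↥(threeJ3 F ω))
    (twistT hF hω) (twistT_center hF hω)

theorem twistJ_mk (g : ↥(threeJ3 F ω)) : twistJ hF hω (π g) = π (twistT hF hω g) := rfl

theorem twistGL_scalar : twistGL hF hω (scalar hF hω 1) = scalar hF hω 2 := by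
  have hmap : Matrix.GeneralLinearGroup.map (sqHom hF) (scalar hF hω 1) = scalar hF hω 2 := by
    refine Units.ext ?_
    ext i j
    rw [Matrix.GeneralLinearGroup.map_apply, (scalar_spec hF hω 1).2, (scalar_spec hF hω 2).2]
    simp only [Matrix.smul_apply, Matrix.one_apply, smul_eq_mul]
    split_ifs
    · show (omegaPow F ω 1 * 1) ^ 2 = omegaPow F ω 2 * 1
      rw [mul_one, mul_one, omegaPow, omegaPow, show ((1 : ZMod 3)).val = 1 from rfl,
        show ((2 : ZMod 3)).val = 2 from rfl, pow_one]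
    · rw [mul_zero, map_zero, mul_zero]
  show twistPG hF hω * Matrix.GeneralLinearGroup.map (sqHom hF) (scalar hF hω 1) *
    (twistPG hF hω)⁻¹ = _
  rw [hmap, ← scalar_comm, mul_inv_cancel_right]

/-- The conjugator. -/
noncomputable def nG : GL F9 F := el hF hω DataAut.nP.1

theorem exists_conj_twist :
    ∃ n : ↥(threeJ3 F ω), n * twistT hF hω (xT hF hω) * n⁻¹ = (xT hF hω)⁻¹ := by
  obtain ⟨g, -, g1, g2⟩ := pairOK_of_pairInv hF hω twist_checks.2.2.1
  refine ⟨⟨g, (memC_spec hF hω (g1.symm ▸ twist_checks.2.2.2.1)).1⟩, Subtype.ext ((C).inj ?_)⟩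
  show (C).enc (g * twistGL hF hω (xG hF hω) * g⁻¹) = (C).enc (xG hF hω)⁻¹
  rw [mul_assoc, el_mulC hF hω g1 (el_mulC hF hω (twistGL_enc hF hω (xG_spec hF hω).2.1) g2),
    (xG_spec hF hω).2.2]
  exact Nat.eq_of_beq_eq_true twist_checks.2.2.2.2

include hF hω in
theorem twistJ_outer : twistJ hF hω ∉ Cfsg.Inn (J3 F ω) := by
  rintro ⟨gb, hgb⟩
  obtain ⟨g, rfl⟩ := QuotientGroup.mk'_surjective _ gb
  set Z := Subgroup.center ↥(threeJ3 F ω)
  have hz : ∀ a : ↥(threeJ3 F ω), (g * a * g⁻¹)⁻¹ * twistT hF hω a ∈ Z := fun a => by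
    have h : MulAut.conj (π g) (π a) = twistJ hF hω (π a) :=
      congrFun (congrArg DFunLike.coe hgb) (π a)
    rw [MulAut.conj_apply, twistJ_mk, ← map_mul, ← map_inv, ← map_mul] at h
    exact QuotientGroup.eq.mp h
  have hsplit : ∀ a : ↥(threeJ3 F ω),
      twistT hF hω a = g * a * g⁻¹ * ((g * a * g⁻¹)⁻¹ * twistT hF hω a) := fun a => by group
  let χ : ↥(threeJ3 F ω) →* ↥Z :=
    { toFun := fun a => ⟨_, hz a⟩
      map_one' := Subtype.ext (by simp)
      map_mul' := fun a b => Subtype.ext (by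
        show (g * (a * b) * g⁻¹)⁻¹ * twistT hF hω (a * b) =
          (g * a * g⁻¹)⁻¹ * twistT hF hω a * ((g * b * g⁻¹)⁻¹ * twistT hF hω b)
        have hc := Subgroup.mem_center_iff.mp (hz a) ((g * b * g⁻¹)⁻¹)
        calc (g * (a * b) * g⁻¹)⁻¹ * twistT hF hω (a * b)
            = (g * b * g⁻¹)⁻¹ * ((g * a * g⁻¹)⁻¹ * twistT hF hω a) * twistT hF hω b := by
              rw [map_mul]; group
          _ = _ := by rw [hc, mul_assoc]) }
  have hcommZ : ∀ a b : ↥Z, a * b = b * a := fun a b =>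
    Subtype.ext (Subgroup.mem_center_iff.mp b.2 a.1)
  have hgA : ∀ i, i < 2 → gA hF hω i ∈ χ.ker := by
    intro i hi
    obtain ⟨p, hp, q, hq, e⟩ := comm_mem hF hω i hi
    have hPle : threeGroup hF hω ≤ threeJ3 F ω := (threeGroup_le hF hω).trans (monGroup_le hF hω)
    have : gA hF hω i = (⟨p, hPle hp⟩ : ↥(threeJ3 F ω)) * ⟨q, hPle hq⟩ *
        (⟨p, hPle hp⟩ : ↥(threeJ3 F ω))⁻¹ * (⟨q, hPle hq⟩ : ↥(threeJ3 F ω))⁻¹ := Subtype.ext e
    rw [MonoidHom.mem_ker, this, map_mul, map_mul, map_mul, map_inv, map_inv,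
      hcommZ (χ _) (χ _), mul_inv_cancel_right, mul_inv_cancel]
  have htop := normal_top_of_gens hF hω χ.normal_ker (hgA 0 (by norm_num)) (hgA 1 (by norm_num))
  set s1 : ↥(threeJ3 F ω) := ⟨scalar hF hω 1, monGroup_le hF hω (scalar_spec hF hω 1).1⟩
  have h1 : χ s1 = 1 := MonoidHom.mem_ker.mp (htop ▸ Subgroup.mem_top s1)
  have h1' : (g * s1 * g⁻¹)⁻¹ * twistT hF hω s1 = 1 := congrArg Subtype.val h1
  have hs : g * s1 * g⁻¹ = s1 := by
    have := Subgroup.mem_center_iff.mp (scalar_central hF hω (g := s1) rfl) g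
    rw [this, mul_inv_cancel_right]
  rw [hs, inv_mul_eq_one] at h1'
  have h2 : scalar hF hω 1 = scalar hF hω 2 :=
    (congrArg Subtype.val h1').trans (twistGL_scalar hF hω)
  have h3 := congrArg (fun u : GL F9 F => (u : Matrix F9 F9 F) 0 0) h2
  simp only [(scalar_spec hF hω _).2, Matrix.smul_apply, Matrix.one_apply_eq, smul_eq_mul,
    mul_one] at h3
  exact absurd (omegaPow_injective hF hω h3) (by decide)

end Cfsg.Agent.Lib.JankoThree
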