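import Cfsg.Agent.Lib.JankoThree.AutCent
import Cfsg.Agent.Lib.JankoThree.AutTwist
import Mathlib.GroupTheory.Sylow

/-!
# The automorphism group of the third Janko group
-/

set_option autoImplicit false

namespace Cfsg.Agent.Lib.JankoThree

open Cfsg.Spor Cfsg.Agent.Lib.Compute

theorem unit_cases : ∀ k < 19, k ≠ 0 → ∃ i < 9, k * 4 ^ i % 19 = 1 ∨ k * 4 ^ i % 19 = 18 := by
  decide +kernel

theorem word3_nil (a b c : ℕ) : word3 a b c [] = oneC := rfl

theorem word3_cons (a b c i : ℕ) (w : List ℕ) : word3 a b c (i :: w) =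
    mulC (bif Nat.beq i 0 then a else bif Nat.beq i 1 then b else c) (word3 a b c w) := by
  rw [word3, forceNat_eq]

variable {F : Type*} [Field F] [Fintype F] {ω : F} (hF : Fintype.card F = 4)
  (hω : ω ^ 2 + ω + 1 = 0)

local notation "C" => jCoding hF hω

set_option quotPrecheck false in
local notation "π" => QuotientGroup.mk' (Subgroup.center ↥(threeJ3 F ω))

attribute [local irreducible] cS oneC word3 mulC

/-- The normalising element in the cover. -/
noncomputable def yT : ↥(threeJ3 F ω) := ⟨yG hF hω, monGroup_le hF hω (yG_spec hF hω).1⟩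

/-- The third generator in the cover. -/
noncomputable def zT : ↥(threeJ3 F ω) := ⟨zG hF hω, monGroup_le hF hω (zG_spec hF hω).1⟩

/-- Value of a word. -/
def wordV {G : Type*} [Group G] (a b c : G) : List ℕ → G
  | [] => 1
  | i :: w => (bif Nat.beq i 0 then a else bif Nat.beq i 1 then b else c) * wordV a b c w

theorem map_wordV {G H : Type*} [Group G] [Group H] (f : G →* H) (a b c : G) :
    ∀ w, f (wordV a b c w) = wordV (f a) (f b) (f c) w
  | [] => map_one f
  | i :: w => by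
    rw [wordV, wordV, map_mul, map_wordV f a b c w]
    cases Nat.beq i 0 <;> cases Nat.beq i 1 <;> rfl

theorem enc_wordV {a b c : GL F9 F} {ca cb cc : ℕ} (ha : (C).enc a = ca) (hb : (C).enc b = cb)
    (hc : (C).enc c = cc) : ∀ w, (C).enc (wordV a b c w) = word3 ca cb cc w
  | [] => by
    rw [word3_nil, wordV]
    exact (C).one_enc.trans jOps_one
  | i :: w => by
    rw [wordV, word3_cons]
    refine el_mulC hF hω ?_ (enc_wordV ha hb hc w)
    cases Nat.beq i 0
    · cases Nat.beq i 1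
      · rw [cond_false, cond_false, cond_false, cond_false]; exact hc
      · rw [cond_false, cond_false, cond_true, cond_true]; exact hb
    · rw [cond_true, cond_true]; exact ha

theorem wordX_enc (w : List ℕ) :
    (C).enc ((wordV (xT hF hω) (yT hF hω) (zT hF hω) w : ↥(threeJ3 F ω)) : GL F9 F) = wordX w := by
  rw [← Subgroup.coe_subtype, map_wordV, wordX]
  exact enc_wordV hF hω (xG_spec hF hω).2.1 (yG_spec hF hω).2.1 (zG_spec hF hω).2.1 w

theorem y_conj_x : yT hF hω * xT hF hω * (yT hF hω)⁻¹ = xT hF hω ^ 4 := by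
  refine Subtype.ext ((C).inj ?_)
  show (C).enc (yG hF hω * xG hF hω * (yG hF hω)⁻¹) = (C).enc (xG hF hω ^ 4)
  rw [el_mulC hF hω (el_mulC hF hω (yG_spec hF hω).2.1 (xG_spec hF hω).2.1) (yG_spec hF hω).2.2,
    ← powC_enc, (xG_spec hF hω).2.1]
  exact Nat.eq_of_beq_eq_true yz_checks.2.2.1

theorem z_conj_y : π (zT hF hω) * π (yT hF hω) * (π (zT hF hω))⁻¹ * π (yT hF hω) = 1 := by
  rw [← map_inv, ← map_mul, ← map_mul, ← map_mul, mk_eq_one_iff hF hω]
  show isScal ((C).enc (zG hF hω * yG hF hω * (zG hF hω)⁻¹ * yG hF hω)) = true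
  rw [el_mulC hF hω (el_mulC hF hω (el_mulC hF hω (zG_spec hF hω).2.1 (yG_spec hF hω).2.1)
    (zG_spec hF hω).2.2) (yG_spec hF hω).2.1]
  exact yz_checks.2.2.2

theorem y_pow_conj (i : ℕ) :
    π (yT hF hω) ^ i * xJ hF hω * (π (yT hF hω) ^ i)⁻¹ = xJ hF hω ^ 4 ^ i := by
  induction i with
  | zero => simp
  | succ i ih =>
    have h := congrArg π (y_conj_x hF hω)
    rw [map_mul, map_mul, map_inv, map_pow] at h
    calc π (yT hF hω) ^ (i + 1) * xJ hF hω * (π (yT hF hω) ^ (i + 1))⁻¹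
        = π (yT hF hω) * (π (yT hF hω) ^ i * xJ hF hω * (π (yT hF hω) ^ i)⁻¹) *
            (π (yT hF hω))⁻¹ := by rw [pow_succ']; group
      _ = (π (yT hF hω) * xJ hF hω * (π (yT hF hω))⁻¹) ^ 4 ^ i := by rw [ih, conj_pow]
      _ = xJ hF hω ^ 4 ^ (i + 1) := by
        rw [show π (yT hF hω) * xJ hF hω * (π (yT hF hω))⁻¹ = xJ hF hω ^ 4 from h, ← pow_mul,
          pow_succ, mul_comm (4 ^ i) 4]

/-- An automorphism fixing the three generators is trivial. -/
theorem eq_one_of_fix {β : MulAut (J3 F ω)} (hx : β (xJ hF hω) = xJ hF hω)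
    (hy : β (π (yT hF hω)) = π (yT hF hω)) (hz : β (π (zT hF hω)) = π (zT hF hω)) : β = 1 := by
  set K : Subgroup ↥(threeJ3 F ω) :=
    ((β.toMonoidHom.eqLocus (MonoidHom.id _)).comap π) with hK
  have hwK : ∀ w, wordV (xT hF hω) (yT hF hω) (zT hF hω) w ∈ K := fun w => by
    show β (π (wordV (xT hF hω) (yT hF hω) (zT hF hω) w)) =
      π (wordV (xT hF hω) (yT hF hω) (zT hF hω) w)
    rw [map_wordV]
    show β.toMonoidHom (wordV (π (xT hF hω)) (π (yT hF hω)) (π (zT hF hω)) w) = _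
    rw [map_wordV]
    show wordV (β (xJ hF hω)) (β (π (yT hF hω))) (β (π (zT hF hω))) w = _
    rw [hx, hy, hz]
    rfl
  obtain ⟨h1, h2, h3, h4, h5, h6, h7, h8⟩ := generation_checks
  have hS : GensOK C DataAut.monValues := fun p hp =>
    PairOK.mono C le_top (inMon_spec hF hω (List.all_eq_true.mp h3 p hp))
  have hle : genGroup C DataAut.monValues ≤ monGroup hF hω := by
    refine (Subgroup.closure_le _).2 ?_
    rintro g ⟨p, hp, hg⟩
    obtain ⟨g', hg', e1, -⟩ := inMon_spec hF hω (List.all_eq_true.mp h3 p hp)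
    exact (C).inj (hg.trans e1.symm) ▸ hg'
  have heq : genGroup C DataAut.monValues = monGroup hF hω :=
    Subgroup.eq_of_le_of_card_ge hle (by rw [card_monGroup, card_genGroup C hS h4, h5])
  have hMK : monGroup hF hω ≤ K.map (threeJ3 F ω).subtype := by
    rw [← heq]
    refine (Subgroup.closure_le _).2 ?_
    rintro g ⟨p, hp, hg⟩
    obtain ⟨i, hi, rfl⟩ := List.mem_iff_getElem.mp hp
    have hw := List.all_eq_true.mp h2
      (DataAut.monWords[i]'(h1 ▸ hi), DataAut.monValues[i])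
      (List.mem_iff_getElem.mpr ⟨i, by rw [List.length_zip, ← h1]; simpa using hi, by simp⟩)
    refine ⟨_, hwK (DataAut.monWords[i]'(h1 ▸ hi)), (C).inj ?_⟩
    show (C).enc ((wordV (xT hF hω) (yT hF hω) (zT hF hω) _ : ↥(threeJ3 F ω)) : GL F9 F) = _
    rw [wordX_enc, hg]
    exact Nat.eq_of_beq_eq_true hw
  have htop : threeJ3 F ω ≤ K.map (threeJ3 F ω).subtype := by
    refine threeJ3_le hF hω hMK ?_
    obtain ⟨p, hp, p1, -⟩ := inMon_spec hF hω h6
    obtain ⟨q, hq, q1, -⟩ := inMon_spec hF hω h7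
    have e : el hF hω invol.1 =
        p * ((wordV (xT hF hω) (yT hF hω) (zT hF hω) DataAut.outWord : ↥(threeJ3 F ω)) * q) := by
      refine el_eq hF hω ?_
      rw [el_mulC hF hω p1 (el_mulC hF hω (wordX_enc hF hω _) q1)]
      exact Nat.eq_of_beq_eq_true h8
    rw [e]
    exact mul_mem (hMK hp) (mul_mem
      ⟨wordV (xT hF hω) (yT hF hω) (zT hF hω) DataAut.outWord, hwK DataAut.outWord, rfl⟩ (hMK hq))
  refine MulEquiv.ext fun v => ?_
  obtain ⟨g, rfl⟩ := QuotientGroup.mk'_surjective _ v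
  obtain ⟨g', hg', e⟩ := htop g.2
  obtain rfl : g' = g := Subtype.ext e
  exact hg'

theorem fix_z {β : MulAut (J3 F ω)} (hx : β (xJ hF hω) = xJ hF hω)
    (hy : β (π (yT hF hω)) = π (yT hF hω)) : β (π (zT hF hω)) = π (zT hF hω) := by
  set z := π (zT hF hω) with hzdef
  set y := π (yT hF hω) with hydef
  obtain ⟨d, hd⟩ := QuotientGroup.mk'_surjective _ (β z * z⁻¹)
  have hzy : z * y * z⁻¹ = y⁻¹ := eq_inv_of_mul_eq_one_left (z_conj_y hF hω)
  have hβ : β z * y * (β z)⁻¹ = y⁻¹ := by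
    have := congrArg β hzy
    rwa [map_mul, map_mul, map_inv, map_inv, hy] at this
  have hc : π d * y * (π d)⁻¹ = y := by
    rw [hd]
    have hzy' : z⁻¹ * y * z = y⁻¹ := by
      calc z⁻¹ * y * z = (z⁻¹ * (z * y * z⁻¹) * z)⁻¹ := by
            rw [hzy]; group
        _ = y⁻¹ := by group
    calc β z * z⁻¹ * y * (β z * z⁻¹)⁻¹ = β z * (z⁻¹ * y * z) * (β z)⁻¹ := by group
      _ = (β z * y * (β z)⁻¹)⁻¹ := by rw [hzy']; group
      _ = y := by rw [hβ, inv_inv]
  have hmem : (d : GL F9 F) ∈ yCentSet hF hω := by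
    refine ⟨d.2, ?_⟩
    rw [hydef, ← map_mul, ← map_inv, ← map_mul, QuotientGroup.mk'_eq_mk'] at hc
    obtain ⟨w, hw, hc⟩ := hc
    obtain ⟨n, hn⟩ := exists_scalar_of_central hF hω (inv_mem hw)
    refine ⟨n, ?_⟩
    have e : d * yT hF hω * d⁻¹ = yT hF hω * w⁻¹ := eq_mul_inv_of_mul_eq hc
    have e' : (d : GL F9 F) * yG hF hω * (d : GL F9 F)⁻¹ = yG hF hω * scalar hF hω n := by
      rw [← hn]; exact congrArg Subtype.val e
    rw [mul_inv_eq_iff_eq_mul] at e'
    rw [e', ← scalar_comm, mul_assoc]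
  obtain ⟨p, hp, hpd⟩ := List.mem_map.mp (mem_yCent hF hω hmem)
  obtain ⟨i, hi, rfl⟩ := List.mem_iff_getElem.mp hp
  obtain ⟨hlen, -, -, hrel⟩ := y_cent_checks
  have h := List.all_eq_true.mp hrel i (List.mem_range.mpr (hlen ▸ hi))
  simp only [relOK, forceNat_eq, genAt, List.getD_eq_getElem DataAut.yCent _ hi] at h
  rw [hpd] at h
  generalize DataAut.yWords.getD i ([], 0) = q at h
  suffices hone : π d = 1 by
    rw [hd, mul_inv_eq_one] at hone
    exact hone
  cases hk : Nat.beq q.2 0 with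
  | true =>
    rw [hk, cond_true] at h
    exact (mk_eq_one_iff hF hω).mpr h
  | false =>
    rw [hk, cond_false, Bool.and_eq_true, Bool.not_eq_true'] at h
    exfalso
    have hr : π (wordV (xT hF hω) (yT hF hω) (zT hF hω) q.1 ^ q.2) = 1 := by
      refine (mk_eq_one_iff hF hω).mpr ?_
      rw [SubmonoidClass.coe_pow, ← powC_enc, wordX_enc]
      exact h.1
    have hr' : π (wordV (xT hF hω) (yT hF hω) (d * zT hF hω) q.1 ^ q.2) = 1 := by
      have e := congrArg β hr
      rw [map_one, map_pow, map_wordV] at e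
      have e2 : β.toMonoidHom (wordV (π (xT hF hω)) (π (yT hF hω)) (π (zT hF hω)) q.1) =
          wordV (π (xT hF hω)) (π (yT hF hω)) (π (d * zT hF hω)) q.1 := by
        rw [map_wordV]
        show wordV (β (xJ hF hω)) (β y) (β z) q.1 = _
        rw [hx, hy, map_mul, hd, hzdef, inv_mul_cancel_right]
        rfl
      rw [map_pow, map_wordV, ← e2]
      rw [map_pow] at e
      exact e
    rw [mk_eq_one_iff hF hω, SubmonoidClass.coe_pow, ← powC_enc] at hr'
    have e : (C).enc ((wordV (xT hF hω) (yT hF hω) (d * zT hF hω) q.1 : ↥(threeJ3 F ω)) : GL F9 F) =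
        word3 DataAut.xP.1 DataAut.yP.1 (mulC ((C).enc (d : GL F9 F)) DataAut.zP.1) q.1 := by
      rw [← Subgroup.coe_subtype, map_wordV]
      exact enc_wordV hF hω (xG_spec hF hω).2.1 (yG_spec hF hω).2.1
        (el_mulC hF hω rfl (zG_spec hF hω).2.1) q.1
    rw [e, h.2] at hr'
    exact Bool.noConfusion hr'

include hF hω in
/-- Every automorphism is inner or a twist times an inner one. -/
theorem inner_or_twist (α : MulAut (J3 F ω)) :
    α ∈ Cfsg.Inn (J3 F ω) ∨ (twistJ hF hω)⁻¹ * α ∈ Cfsg.Inn (J3 F ω) := by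
  haveI : Fact (Nat.Prime 19) := ⟨by norm_num⟩
  set x := xJ hF hω with hxdef
  have hfac : (Nat.card (J3 F ω)).factorization 19 = 1 := by
    rw [card_J3 hF hω, show (50232960 : ℕ) = 19 ^ 1 * 2643840 from rfl,
      Nat.factorization_mul (by norm_num) (by norm_num), Finsupp.add_apply,
      Nat.Prime.factorization_pow (by norm_num), Finsupp.single_eq_same,
      Nat.factorization_eq_zero_of_not_dvd (by norm_num)]
  -- an inner correction brings the image to a power
  have hsyl : ∀ u : J3 F ω, orderOf u = 19 → ∃ g k, k < 19 ∧ k ≠ 0 ∧ g * u * g⁻¹ = x ^ k := by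
    intro u hu
    let P : Sylow 19 (J3 F ω) := Sylow.ofCard (Subgroup.zpowers u) (by
      rw [Nat.card_zpowers, hu, hfac]; norm_num)
    let X : Sylow 19 (J3 F ω) := Sylow.ofCard (Subgroup.zpowers x) (by
      rw [Nat.card_zpowers, hxdef, xJ_orderOf, hfac]; norm_num)
    obtain ⟨g, hg⟩ := MulAction.exists_smul_eq (J3 F ω) P X
    have hmem : g * u * g⁻¹ ∈ (X : Subgroup (J3 F ω)) := by
      rw [← hg]
      exact Subgroup.smul_mem_pointwise_smul u (MulAut.conj g) _ (Subgroup.mem_zpowers u)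
    obtain ⟨k, hk⟩ := Submonoid.mem_powers_iff _ _ |>.mp
      ((mem_powers_iff_mem_zpowers).mpr (show g * u * g⁻¹ ∈ Subgroup.zpowers x from hmem))
    refine ⟨g, k % 19, Nat.mod_lt _ (by norm_num), fun h0 => ?_, ?_⟩
    · rw [← pow_mod_orderOf, hxdef, xJ_orderOf, h0, pow_zero, eq_comm, conj_eq_one_iff] at hk
      rw [hk, orderOf_one] at hu
      exact absurd hu (by norm_num)
    · rw [← hk, ← pow_mod_orderOf x k, hxdef, xJ_orderOf]
  -- reduce to an automorphism fixing `x`
  obtain ⟨g, k, hk, hk0, hgk⟩ := hsyl (α x) (by rw [MulEquiv.orderOf_eq, hxdef, xJ_orderOf])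
  obtain ⟨i, -, hi⟩ := unit_cases k hk hk0
  set c := π (yT hF hω) ^ i * g with hcdef
  have hαc : c * α x * c⁻¹ = x ^ (k * 4 ^ i % 19) := by
    calc c * α x * c⁻¹ = π (yT hF hω) ^ i * (g * α x * g⁻¹) * (π (yT hF hω) ^ i)⁻¹ := by
          rw [hcdef]; group
      _ = (π (yT hF hω) ^ i * x * (π (yT hF hω) ^ i)⁻¹) ^ k := by rw [hgk, conj_pow]
      _ = x ^ (k * 4 ^ i % 19) := by
        rw [hxdef, y_pow_conj, ← pow_mul, ← xJ_orderOf hF hω, pow_mod_orderOf, mul_comm]
  obtain ⟨n, hn⟩ := exists_conj_twist hF hω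
  have hnx : π n * twistJ hF hω x * (π n)⁻¹ = x⁻¹ := by
    have := congrArg π hn
    rwa [map_mul, map_mul, map_inv, map_inv, ← twistJ_mk] at this
  -- the normalised automorphism
  have main : ∀ β : MulAut (J3 F ω), β x = x → β ∈ Cfsg.Inn (J3 F ω) := by
    intro β hβ
    set y := π (yT hF hω) with hydef
    have hyx : y * x * y⁻¹ = x ^ 4 := by
      have := y_pow_conj hF hω 1
      rwa [pow_one, pow_one] at this
    have hmem : y⁻¹ * β y ∈ Subgroup.centralizer ({x} : Set (J3 F ω)) := by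
      rw [Subgroup.mem_centralizer_singleton_iff]
      have h := congrArg β hyx
      rw [map_mul, map_mul, map_inv, map_pow, hβ, ← hyx, mul_inv_eq_iff_eq_mul] at h
      calc y⁻¹ * β y * x = y⁻¹ * (β y * x) := by group
        _ = x * (y⁻¹ * β y) := by rw [h]; group
    rw [hxdef, centralizer_xJ hF hω] at hmem
    obtain ⟨a, ha⟩ := Subgroup.mem_zpowers_iff.mp hmem
    rw [← hxdef] at ha
    -- conjugation by a power of `x` giving the same image
    set b := x ^ (5 * a) with hb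
    have hby : b * y * b⁻¹ = y * x ^ a := by
      have h5 : y⁻¹ * x * y = x ^ 5 := by
        have h4 : (y * x * y⁻¹) ^ 5 = x ^ 20 := by rw [hyx, ← pow_mul]
        have h20 : x ^ 20 = x := by
          rw [show (20 : ℕ) = 19 + 1 from rfl, pow_succ,
            show x ^ 19 = 1 by rw [← xJ_orderOf hF hω, pow_orderOf_eq_one], one_mul]
        rw [h20, conj_pow] at h4
        calc y⁻¹ * x * y = y⁻¹ * (y * x ^ 5 * y⁻¹) * y := by rw [h4]
          _ = x ^ 5 := by group
      have hbb : y⁻¹ * b * y = b ^ (5 : ℤ) := by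
        have e5 : y⁻¹ * x * (y⁻¹)⁻¹ = x ^ (5 : ℤ) := by rw [inv_inv, h5]; norm_cast
        calc y⁻¹ * b * y = y⁻¹ * x ^ (5 * a) * (y⁻¹)⁻¹ := by rw [inv_inv, hb]
          _ = (y⁻¹ * x * (y⁻¹)⁻¹) ^ (5 * a) := conj_zpow.symm
          _ = b ^ (5 : ℤ) := by rw [e5, hb, ← zpow_mul, ← zpow_mul, mul_comm]
      calc b * y * b⁻¹ = y * (y⁻¹ * b * y) * b⁻¹ := by group
        _ = y * (b ^ (4 : ℤ)) := by rw [hbb]; group
        _ = y * x ^ a := by
          rw [hb, ← zpow_mul]
          congr 1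
          have h19 : x ^ (19 : ℤ) = 1 := by
            rw [show (19 : ℤ) = ((19 : ℕ) : ℤ) from rfl, zpow_natCast, ← xJ_orderOf hF hω,
              pow_orderOf_eq_one]
          rw [show 5 * a * 4 = 19 * a + a by ring, zpow_add, zpow_mul, h19, one_zpow, one_mul]
    set β' := (MulAut.conj b)⁻¹ * β with hβ'
    have hx' : β' x = x := by
      show (MulAut.conj b)⁻¹ (β x) = x
      rw [hβ, MulAut.inv_apply, MulEquiv.symm_apply_eq, MulAut.conj_apply, hb]
      group
    have hy' : β' y = y := by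
      show (MulAut.conj b)⁻¹ (β y) = y
      rw [MulAut.inv_apply, MulEquiv.symm_apply_eq, MulAut.conj_apply, hby, ha,
        mul_inv_cancel_left]
    have h1 := eq_one_of_fix hF hω hx' hy' (fix_z hF hω hx' hy')
    rw [hβ', inv_mul_eq_one] at h1
    exact ⟨b, h1⟩
  rcases hi with hi | hi
  · left
    have h := main (MulAut.conj c * α) (by
      show MulAut.conj c (α x) = x
      rw [MulAut.conj_apply, hαc, hi, pow_one])
    have := mul_mem (inv_mem (⟨c, rfl⟩ : MulAut.conj c ∈ Cfsg.Inn (J3 F ω))) h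
    rwa [inv_mul_cancel_left] at this
  · right
    set τ := MulAut.conj (π n) * twistJ hF hω with hτ
    have hx18 : x ^ 18 = x⁻¹ := by
      refine eq_inv_of_mul_eq_one_left ?_
      rw [← pow_succ, show (18 : ℕ) + 1 = 19 from rfl, ← xJ_orderOf hF hω, pow_orderOf_eq_one]
    have h := main (τ⁻¹ * (MulAut.conj c * α)) (by
      show τ⁻¹ (MulAut.conj c (α x)) = x
      rw [MulAut.conj_apply, hαc, hi, hx18, MulAut.inv_apply, MulEquiv.symm_apply_eq]
      show x⁻¹ = MulAut.conj (π n) (twistJ hF hω x)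
      rw [MulAut.conj_apply, hnx])
    have hN : (Cfsg.Inn (J3 F ω)).Normal := inferInstance
    -- split off the inner factors
    have hn' : MulAut.conj (π n) ∈ Cfsg.Inn (J3 F ω) := ⟨_, rfl⟩
    have hc' : MulAut.conj c ∈ Cfsg.Inn (J3 F ω) := ⟨_, rfl⟩
    have e : (twistJ hF hω)⁻¹ * α =
        ((twistJ hF hω)⁻¹ * ((MulAut.conj c)⁻¹ * MulAut.conj (π n)) * twistJ hF hω) *
          (τ⁻¹ * (MulAut.conj c * α)) := by
      rw [hτ]; group
    rw [e]
    refine mul_mem ?_ h
    have := hN.conj_mem _ (mul_mem (inv_mem hc') hn') (twistJ hF hω)⁻¹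
    rwa [inv_inv] at this

include hF hω in
/-- The outer automorphism group has order two. -/
theorem card_out : Nat.card (Cfsg.Out (J3 F ω)) = 2 := by
  rw [Nat.card_eq_two_iff]
  refine ⟨(1 : Cfsg.Out (J3 F ω)), ((twistJ hF hω : MulAut (J3 F ω)) : Cfsg.Out (J3 F ω)), ?_, ?_⟩
  · intro h
    exact twistJ_outer hF hω ((QuotientGroup.eq_one_iff _).mp h.symm)
  · refine Set.eq_univ_of_forall fun q => ?_
    induction q using QuotientGroup.induction_on with | _ α =>
    rcases inner_or_twist hF hω α with h | h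
    · exact Or.inl ((QuotientGroup.eq_one_iff _).mpr h)
    · exact Or.inr (Set.mem_singleton_iff.mpr (QuotientGroup.eq.mpr h).symm)

end Cfsg.Agent.Lib.JankoThree
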