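import Cfsg.Agent.Lib.JankoThree.AutField
import Cfsg.Agent.Lib.JankoThree.InvolImage
import Mathlib.GroupTheory.PGroup

/-!
# An element of order nineteen is self-centralising in the third Janko group
-/

set_option autoImplicit false

namespace Cfsg.Agent.Lib.JankoThree

open Cfsg.Spor Cfsg.Agent.Lib.Compute

variable {F : Type*} [Field F] [Fintype F] {ω : F} (hF : Fintype.card F = 4)
  (hω : ω ^ 2 + ω + 1 = 0)

local notation "C" => jCoding hF hω

attribute [local irreducible] cS oneC basePt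

set_option quotPrecheck false in
local notation "π" => QuotientGroup.mk' (Subgroup.center ↥(threeJ3 F ω))

theorem hasPt_of_mem {t : Tree} {l : List ℕ} (h : (l.all fun x => hasPt t x) = true) {x : ℕ}
    (hx : x ∈ l) : hasPt t x = true := List.all_eq_true.mp h x hx

/-- The element of order nine in the commutant. -/
noncomputable def nineG : GL F9 F := el hF hω DataAut.nineP.1

theorem nineG_spec : (C).enc (nineG hF hω) = DataAut.nineP.1 ∧
    nineG hF hω * xG hF hω = xG hF hω * nineG hF hω ∧ orderOf (nineG hF hω) = 9 := by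
  obtain ⟨g, -, g1, -⟩ := pairOK_of_pairInv hF hω nine_checks.1
  rw [nineG, el_eq hF hω g1]
  refine ⟨g1, (C).inj ?_, ?_⟩
  · rw [el_mulC hF hω g1 (xG_spec hF hω).2.1, el_mulC hF hω (xG_spec hF hω).2.1 g1]
    exact Nat.eq_of_beq_eq_true nine_checks.2.1
  · haveI : Fact (Nat.Prime 3) := ⟨Nat.prime_three⟩
    have h9 : g ^ 9 = 1 := (C).inj (by
      rw [← powC_enc, g1, (C).one_enc, jOps_one, Nat.eq_of_beq_eq_true nine_checks.2.2.1])
    have h3 : ¬g ^ 3 = 1 := by
      intro h
      have e : powC jOps DataAut.nineP.1 3 = oneC := by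
        rw [← g1, powC_enc, h, (C).one_enc, jOps_one]
      have hb := nine_checks.2.2.2.1
      rw [e, Nat.beq_refl] at hb
      exact Bool.noConfusion hb
    exact orderOf_eq_prime_pow (p := 3) (n := 1) (by rwa [pow_one]) h9

theorem nineG_not_mem : nineG hF hω ∉ threeJ3 F ω := by
  intro hg
  have horb : (nineG hF hω : GL F9 F ⧸ monGroup hF hω) ∈ cosetUnion hF hω := by
    refine orbit_subset hF hω ⟨⟨_, hg⟩, ?_⟩
    show nineG hF hω • pnt hF hω 0 = _
    rw [one_pnt, MulAction.Quotient.smul_coe, smul_eq_mul, mul_one]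
  obtain ⟨j, ⟨⟨m, hm⟩, hme⟩⟩ := Set.mem_iUnion.mp horb
  have hm' : ((m * rep hF hω j.val : GL F9 F) : GL F9 F ⧸ monGroup hF hω) = nineG hF hω := hme
  rw [QuotientGroup.eq, mul_inv_rev] at hm'
  obtain ⟨-, hlt0, hlt, -⟩ := orbit_checks 0 (by norm_num)
  obtain ⟨s, hs, hse⟩ := baseSet_closed hF hω (k := 0) (by norm_num) hm'
  set v := (nineG hF hω : Matrix F9 F9 F).mulVec (baseVec F ω 0) with hv
  have hrs : (rep hF hω j.val : Matrix F9 F9 F).mulVec (decV F ω s) =
      ((m⁻¹ : GL F9 F) : Matrix F9 F9 F).mulVec v := by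
    rw [hse, hv, Matrix.mulVec_mulVec, Matrix.mulVec_mulVec, ← Units.val_mul, ← Units.val_mul]
    congr 2
    group
  have hvc : v = decV F ω (mulV DataAut.nineP.1 (basePt 0)) := by
    rw [hv, baseVec, mulV_spec hF hω (nineG_spec hF hω).1]
  rw [mulV_spec hF hω (rep_enc hF hω j.val).1, hvc, mulV_spec hF hω rfl] at hrs
  have e := decV_inj hω (add_self_eq_zero' hF) (mulV_lt _ _) (mulV_lt _ _) hrs
  have h1 : hasPt DataAut.reachTree (mulV (repAt j.val).1 s) = true :=
    List.all_eq_true.mp (List.all_eq_true.mp nine_checks.2.2.2.2 j.val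
      (List.mem_range.mpr j.isLt)) s hs
  have h2 := List.all_eq_true.mp nine_outside _
    (enc_mem_elems C (gensOK_mon hF hω) mon_checks.2.1 (inv_mem hm))
  rw [← e, h1] at h2
  exact Bool.noConfusion h2

/-- The element of order nineteen in the cover. -/
noncomputable def xT : ↥(threeJ3 F ω) := ⟨xG hF hω, (xG_spec hF hω).1⟩

theorem xT_pow : xT hF hω ^ 19 = 1 := Subtype.ext (xG_pow hF hω)

/-- Its image. -/
noncomputable def xJ : J3 F ω := π (xT hF hω)

theorem isScal_iff {g : GL F9 F} : isScal ((C).enc g) = true ↔ ∃ n, g = scalar hF hω n := by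
  simp only [isScal, forceNat_eq, List.any_eq_true]
  constructor
  · rintro ⟨l, hl, e⟩
    obtain ⟨n, rfl⟩ : ∃ n, l = cS n := by
      rw [scalCodes, List.mem_cons, List.mem_cons, List.mem_singleton] at hl
      rcases hl with e' | e' | e' <;> exact ⟨_, e'⟩
    exact ⟨n, (C).inj ((Nat.eq_of_beq_eq_true e).trans (scalar_enc hF hω n).symm)⟩
  · rintro ⟨n, rfl⟩
    refine ⟨cS n, ?_, by rw [scalar_enc]; exact Nat.beq_refl _⟩
    have h3 : n = 0 ∨ n = 1 ∨ n = 2 := (by decide : ∀ m : ZMod 3, m = 0 ∨ m = 1 ∨ m = 2) n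
    rw [scalCodes, List.mem_cons, List.mem_cons, List.mem_singleton]
    exact h3.imp (congrArg cS) (Or.imp (congrArg cS) (congrArg cS))

theorem mk_eq_one_iff {g : ↥(threeJ3 F ω)} :
    π g = 1 ↔ isScal ((C).enc (g : GL F9 F)) = true := by
  rw [isScal_iff hF hω]
  refine ⟨fun h => exists_scalar_of_central hF hω ((QuotientGroup.eq_one_iff _).mp h), ?_⟩
  rintro ⟨n, hn⟩
  exact (QuotientGroup.eq_one_iff _).mpr (scalar_central hF hω hn)

theorem xJ_orderOf : orderOf (xJ hF hω) = 19 := by
  haveI : Fact (Nat.Prime 19) := ⟨by norm_num⟩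
  refine orderOf_eq_prime (by rw [xJ, ← map_pow, xT_pow, map_one]) fun h => ?_
  rw [xJ, mk_eq_one_iff hF hω] at h
  have e : ((C).enc ((xT hF hω : ↥(threeJ3 F ω)) : GL F9 F)) = DataAut.xP.1 := (xG_spec hF hω).2.1
  rw [e, x_checks.2.2.2.1] at h
  exact Bool.noConfusion h

include hF hω in
/-- The centraliser in the simple group of the element of order nineteen. -/
theorem centralizer_xJ :
    Subgroup.centralizer ({xJ hF hω} : Set (J3 F ω)) = Subgroup.zpowers (xJ hF hω) := by
  haveI : Fact (Nat.Prime 19) := ⟨by norm_num⟩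
  set K := Subgroup.centralizer ({xJ hF hω} : Set (J3 F ω))
  have hexp : ∀ k ∈ K, k ^ 19 = 1 := by
    intro k hk
    obtain ⟨g, rfl⟩ := QuotientGroup.mk'_surjective _ k
    rw [Subgroup.mem_centralizer_singleton_iff, xJ, ← map_mul, ← map_mul] at hk
    rw [QuotientGroup.mk'_eq_mk'] at hk
    obtain ⟨z, hz, hk⟩ := hk
    have hconj : g * xT hF hω * g⁻¹ = xT hF hω * z⁻¹ := by
      have hzc : ∀ a : ↥(threeJ3 F ω), a * z = z * a := fun a => Subgroup.mem_center_iff.mp hz a
      calc g * xT hF hω * g⁻¹ = g * xT hF hω * z * z⁻¹ * g⁻¹ := by group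
        _ = xT hF hω * g * (g⁻¹ * z⁻¹) := by
            rw [hk, mul_assoc (xT hF hω * g), ← mul_inv_rev, ← mul_inv_rev, hzc]
        _ = xT hF hω * z⁻¹ := by group
    have h := congrArg (· ^ 19) hconj
    have hc : Commute (xT hF hω) z⁻¹ := (Subgroup.mem_center_iff.mp (inv_mem hz) (xT hF hω))
    simp only [conj_pow, xT_pow, mul_one, mul_inv_cancel, hc.mul_pow, one_mul] at h
    have h3 : z⁻¹ ^ 3 = 1 := center_pow_three hF hω (inv_mem hz)
    have hz1 : z⁻¹ = 1 := by
      have : z⁻¹ ^ 19 = z⁻¹ := by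
        rw [show (19 : ℕ) = 3 * 6 + 1 from rfl, pow_succ, pow_mul, h3, one_pow, one_mul]
      exact this.symm.trans h.symm
    rw [hz1, mul_one] at hconj
    have hcomm : (g : GL F9 F) * xG hF hω = xG hF hω * g :=
      congrArg Subtype.val (mul_inv_eq_iff_eq_mul.mp hconj)
    have hcg : ((g : GL F9 F) ^ 19) * xG hF hω = xG hF hω * (g : GL F9 F) ^ 19 :=
      ((show Commute (g : GL F9 F) (xG hF hω) from hcomm).pow_left 19).eq
    have hfield := pow_eq_one_of_commute hF hω hcg
    have hJ : π g ^ 50232960 = 1 := by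
      have := pow_card_eq_one' (G := J3 F ω) (x := π g)
      rwa [card_J3 hF hω] at this
    -- the part of three-power order
    set u : ↥(threeJ3 F ω) := g ^ 19 with hu
    have hu81 : u ^ (2 ^ 7 * 3 ^ 6 * 5 * 17) = 1 := by
      have h1 : π g ^ 50232960 = π (u ^ (2 ^ 7 * 3 ^ 5 * 5 * 17)) := by
        rw [hu, ← pow_mul, map_pow]
        norm_num
      rw [hJ] at h1
      have h2 := center_pow_three hF hω ((QuotientGroup.eq_one_iff _).mp h1.symm)
      rw [← pow_mul] at h2
      exact h2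
    have hu27 : u ^ 27 = 1 := by
      have a : u ^ 262143 = 1 := Subtype.ext hfield
      have := pow_gcd_eq_one.mpr ⟨a, hu81⟩
      rwa [show Nat.gcd 262143 (2 ^ 7 * 3 ^ 6 * 5 * 17) = 27 by norm_num] at this
    have hu3 : u ^ 3 = 1 := by
      by_contra h3'
      obtain ⟨h, hh9, hh3, hhc⟩ : ∃ h : ↥(threeJ3 F ω), h ^ 9 = 1 ∧ h ^ 3 ≠ 1 ∧
          (h : GL F9 F) * xG hF hω = xG hF hω * h := by
        by_cases h9 : u ^ 9 = 1
        · exact ⟨u, h9, h3', hcg⟩
        · refine ⟨u ^ 3, by rw [← pow_mul]; exact hu27, by rw [← pow_mul]; exact h9, ?_⟩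
          exact ((show Commute (u : GL F9 F) (xG hF hω) from hcg).pow_left 3).eq
      obtain ⟨n1, n2, n3⟩ := nineG_spec hF hω
      obtain ⟨i, hi⟩ := exists_pow_of_commute hF hω hhc n2 (by norm_num) n3
        (congrArg Subtype.val hh9)
      have hord : orderOf (h : GL F9 F) = 9 := by
        haveI : Fact (Nat.Prime 3) := ⟨Nat.prime_three⟩
        exact orderOf_eq_prime_pow (p := 3) (n := 1)
          (by rw [pow_one]; exact fun e => hh3 (Subtype.ext e)) (congrArg Subtype.val hh9)
      obtain ⟨k, hk⟩ := exists_pow_of_commute hF hω n2 hhc (by norm_num) hord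
        (by rw [← n3, pow_orderOf_eq_one])
      exact nineG_not_mem hF hω (hk ▸ pow_mem h.2 k)
    have hscal : ∃ n, (u : GL F9 F) = scalar hF hω n := by
      have hs : (scalar hF hω 1) * xG hF hω = xG hF hω * scalar hF hω 1 := scalar_comm hF hω 1 _
      have hord : orderOf (scalar hF hω 1) = 3 := by
        haveI : Fact (Nat.Prime 3) := ⟨Nat.prime_three⟩
        refine orderOf_eq_prime ?_ fun e => ?_
        · exact congrArg Subtype.val (center_pow_three hF hω
            (scalar_central hF hω (g := ⟨_, monGroup_le hF hω (scalar_spec hF hω 1).1⟩) rfl))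
        · have := (scalar_spec hF hω 1).2
          rw [e, Units.val_one] at this
          have h00 := congrFun (congrFun this 0) 0
          simp only [Matrix.one_apply_eq, Matrix.smul_apply, smul_eq_mul, mul_one] at h00
          exact absurd (omegaPow_injective hF hω (show omegaPow F ω 0 = omegaPow F ω 1 by
            rw [← h00]; simp [omegaPow])) zero_ne_one
      obtain ⟨i, hi⟩ := exists_pow_of_commute hF hω hcg hs (by norm_num) hord
        (congrArg Subtype.val hu3)
      have hz : (⟨scalar hF hω 1, monGroup_le hF hω (scalar_spec hF hω 1).1⟩ : ↥(threeJ3 F ω)) ^ i ∈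
          Subgroup.center ↥(threeJ3 F ω) := pow_mem (scalar_central hF hω rfl) i
      have : u ∈ Subgroup.center ↥(threeJ3 F ω) := by
        have e : u = (⟨scalar hF hω 1, monGroup_le hF hω (scalar_spec hF hω 1).1⟩ :
            ↥(threeJ3 F ω)) ^ i := Subtype.ext hi.symm
        rw [e]; exact hz
      exact exists_scalar_of_central hF hω this
    rw [← map_pow]
    obtain ⟨n, hn⟩ := hscal
    exact (QuotientGroup.eq_one_iff _).mpr (scalar_central hF hω hn)
  have hp : IsPGroup 19 K := fun k => ⟨1, Subtype.ext (by rw [pow_one]; exact hexp k k.2)⟩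
  obtain ⟨n, hn⟩ := IsPGroup.iff_card.mp hp
  have hle : Subgroup.zpowers (xJ hF hω) ≤ K :=
    Subgroup.zpowers_le.mpr (Subgroup.mem_centralizer_singleton_iff.mpr rfl)
  have hdvd := Subgroup.card_subgroup_dvd_card K
  rw [hn, card_J3 hF hω] at hdvd
  refine (Subgroup.eq_of_le_of_card_ge hle ?_).symm
  rw [hn, Nat.card_zpowers, xJ_orderOf]
  rcases n with _ | _ | n
  · norm_num
  · norm_num
  · exfalso
    exact absurd ((pow_dvd_pow 19 (show 2 ≤ n + 2 by omega)).trans hdvd) (by norm_num)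

end Cfsg.Agent.Lib.JankoThree
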