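import Cfsg.Agent.Lib.JankoThree.InvolMain
import Cfsg.Agent.Lib.Fusion87.SimpleGen
import Cfsg.Agent.Lib.Fusion.SimpleSylow

/-!
# The 2-fusion system of the third Janko group is simple
-/

set_option autoImplicit false

namespace Cfsg.Agent.Lib.JankoThree

open Cfsg Cfsg.Spor Cfsg.Agent.Lib.Compute Cfsg.FusionSystem

variable {F : Type*} [Field F] [Fintype F] {ω : F} (hF : Fintype.card F = 4)
  (hω : ω ^ 2 + ω + 1 = 0)

local notation "C" => jCoding hF hω

set_option quotPrecheck false in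
local notation "π" => QuotientGroup.mk' (Subgroup.center ↥(threeJ3 F ω))

theorem pairOK_extra (i : ℕ) (hi : i < 3) :
    PairOK C (threeJ3 F ω ⊓ hGroup hF hω) (genAt DataInvol.extra jOps i) := by
  have hl : i < DataInvol.extra.length := by rw [fusion_checks.2.1]; exact hi
  rw [genAt, List.getD_eq_getElem _ _ hl]
  obtain ⟨g, -, g1, g2⟩ := pairOK_of_pairInv hF hω
    (List.all_eq_true.mp fusion_checks.1 _ (List.getElem_mem hl))
  have h := good_of_sift C (gensOK_h hF hω) h_checks.1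
    (g1.symm ▸ List.all_eq_true.mp fusion_checks.2.2.1 _ (List.getElem_mem hl))
  exact ⟨g, ⟨((hGroup_le hF hω) h).1, h⟩, g1, g2⟩

/-- The element of order three or one of the two involutions. -/
noncomputable def extraT (i : Fin 3) : ↥(threeJ3 F ω) :=
  ⟨el hF hω (genAt DataInvol.extra jOps i.val).1,
    (el_pair hF hω (pairOK_extra hF hω i.val i.isLt)).1.1⟩

theorem extraT_spec (i : Fin 3) :
    (extraT hF hω i : GL F9 F) ∈ hGroup hF hω ∧
    (C).enc (extraT hF hω i : GL F9 F) = (genAt DataInvol.extra jOps i.val).1 ∧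
    (C).enc (extraT hF hω i : GL F9 F)⁻¹ = (genAt DataInvol.extra jOps i.val).2 := by
  obtain ⟨h1, h2, h3, h4⟩ := el_pair hF hω (pairOK_extra hF hω i.val i.isLt)
  exact ⟨h1.2, h2, by show (C).enc (el hF hω _)⁻¹ = _; rw [← h3]; exact h4⟩

theorem extra_mem_cen (i : Fin 3) : π (extraT hF hω i) ∈ cenJ hF hω :=
  hJ_le hF hω (mem_toJ (extraT_spec hF hω i).1)

theorem extra_sq {i : Fin 3} (hi : i ≠ 0) : π (extraT hF hω i) ^ 2 = 1 := by
  have h := fusion_checks.2.2.2.1
  simp only [Bool.and_eq_true, sqOne] at h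
  have e : extraT hF hω i * extraT hF hω i = 1 := by
    refine Subtype.ext ((C).inj ?_)
    rw [Subgroup.coe_mul, OneMemClass.coe_one,
      el_mulC hF hω (extraT_spec hF hω i).2.1 (extraT_spec hF hω i).2.1, (C).one_enc, jOps_one]
    fin_cases i
    · exact absurd rfl hi
    · exact Nat.eq_of_beq_eq_true h.1.1
    · exact Nat.eq_of_beq_eq_true h.1.2
  rw [pow_two, ← map_mul, e, map_one]

theorem extra_mul : π (extraT hF hω 1) * π (extraT hF hω 2) = π (extraT hF hω 0) := by
  have h := fusion_checks.2.2.2.1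
  simp only [Bool.and_eq_true] at h
  rw [← map_mul]
  refine congrArg π (Subtype.ext ((C).inj ?_))
  rw [Subgroup.coe_mul, el_mulC hF hω (extraT_spec hF hω 1).2.1 (extraT_spec hF hω 2).2.1,
    (extraT_spec hF hω 0).2.1]
  exact Nat.eq_of_beq_eq_true h.2

theorem mem_normalizer_qJ {x : J3 F ω} (hx : x ∈ cenJ hF hω) :
    x ∈ Subgroup.normalizer (qJ hF hω : Set (J3 F ω)) := by
  rw [Subgroup.mem_normalizer_iff]
  intro y
  have key : ∀ a ∈ cenJ hF hω, ∀ b ∈ qJ hF hω, a * b * a⁻¹ ∈ qJ hF hω := fun a ha b hb =>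
    (qJ_normal hF hω).conj_mem ⟨b, qJ_le hF hω hb⟩ hb ⟨a, ha⟩
  refine ⟨fun hy => key x hx y hy, fun hy => ?_⟩
  have := key _ (inv_mem hx) _ hy
  simpa [mul_assoc] using this

theorem centralizer_qJ_le : Subgroup.centralizer (qJ hF hω : Set (J3 F ω)) ≤ qJ hF hω := by
  intro x hx
  have ht : tJ hF hω ∈ qJ hF hω := mem_toJ (tG_mem_q hF hω)
  have hc : x ∈ cenJ hF hω := Subgroup.mem_centralizer_singleton_iff.mpr
    ((Subgroup.mem_centralizer_iff.mp hx _ ht).symm)
  obtain ⟨q', hq', h', hh', e⟩ := exists_qh hF hω hc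
  obtain ⟨q, hq, rfl⟩ := exists_of_mem_toJ hq'
  obtain ⟨h, hh, rfl⟩ := exists_of_mem_toJ hh'
  rw [← map_mul] at e
  suffices h = 1 by rw [← e, this, mul_one]; exact mem_toJ hq
  have hb := List.all_eq_true.mp fusion_checks.2.2.2.2.2.1 _
    (enc_mem_elems C (gensOK_h hF hω) h_checks.1 hh)
  rw [Bool.or_eq_true, List.all_eq_true] at hb
  rcases hb with hb | hb
  · exact Subtype.ext ((C).inj (by
      rw [Nat.eq_of_beq_eq_true hb, OneMemClass.coe_one, (C).one_enc, jOps_one]))
  · exfalso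
    have hbb := hb _ (enc_mem_elems C (gensOK_q hF hω) q_checks.1 hq)
    simp only [forceNat_eq, List.any_eq_true, Bool.not_eq_true'] at hbb
    obtain ⟨p, hp, hn⟩ := hbb
    obtain ⟨g, hgT, g1, -⟩ := pairOK_allGens hF hω (mem_allGens (Or.inl hp))
    have hgq := mem_genGroup_of_enc C hp g1
    have hcomm := commute_of_mk hF hω (g := q * h) (x := ⟨g, hgT⟩) (pow_128_qGroup hF hω hgq)
      (by rw [e]; exact (Subgroup.mem_centralizer_iff.mp hx _ (mem_toJ (K := qGroup hF hω) (g := ⟨g, hgT⟩) hgq)).symm)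
    rw [← el_mulC hF hω rfl rfl] at hn
    rw [(commC_enc hF hω rfl g1).mpr (show (q : GL F9 F) * h * g = g * (q * h) from
      congrArg Subtype.val hcomm)] at hn
    exact Bool.noConfusion hn

theorem gen_s_sq {p : ℕ × ℕ} (hp : p ∈ DataInvol.sGens) {g : GL F9 F} (hg : (C).enc g = p.1) :
    g * g = 1 := by
  refine (C).inj ?_
  rw [el_mulC hF hω hg hg, (C).one_enc, jOps_one]
  exact Nat.eq_of_beq_eq_true (List.all_eq_true.mp s_checks.2.2.1 p hp)

theorem normalizer_sJ {g : J3 F ω}
    (hg : g ∈ Subgroup.normalizer (sJ hF hω : Set (J3 F ω))) {K : Subgroup (J3 F ω)}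
    (hSK : sJ hF hω ≤ K) (hdK : π (extraT hF hω 0) ∈ K) : g ∈ K := by
  have htS : tJ hF hω ∈ sJ hF hω := mem_toJ (good_of_sift C (gensOK_s hF hω) s_checks.1
    (by show sift jOps DataInvol.sChain ((C).enc (tG hF hω)) = true
        rw [(tG_spec hF hω).2]; exact s_checks.2.2.2.2.2.2.1))
  have hqS : qJ hF hω ≤ sJ hF hω := by
    intro y hy
    obtain ⟨q, hq, rfl⟩ := exists_of_mem_toJ hy
    exact mem_toJ (qGroup_le_sGroup hF hω hq)
  have hfix : g * tJ hF hω * g⁻¹ = tJ hF hω := by
    obtain ⟨s, hs, e⟩ := exists_of_mem_toJ ((Subgroup.mem_normalizer_iff.mp hg _).mp htS)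
    have hcs : ∀ u : ↥(threeJ3 F ω), (u : GL F9 F) ∈ sGroup hF hω → u * s = s * u := by
      intro u hu
      refine commute_of_mk hF hω (pow_128_sGroup hF hω hs) ?_
      rw [e]
      have hw : g⁻¹ * π u * g ∈ sJ hF hω := by
        have := (Subgroup.mem_normalizer_iff.mp (inv_mem hg) _).mp (mem_toJ (ω := ω) hu)
        rwa [inv_inv] at this
      obtain ⟨w, hw', ew⟩ := exists_of_mem_toJ hw
      have h := Subgroup.mem_centralizer_singleton_iff.mp
        (show π w ∈ Subgroup.centralizer ({tJ hF hω} : Set (J3 F ω)) from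
          toJ_le_centralizer hF hω (sGroup_le hF hω) (mem_toJ hw'))
      rw [ew] at h
      calc π u * (g * tJ hF hω * g⁻¹) = g * (g⁻¹ * π u * g * tJ hF hω) * g⁻¹ := by group
        _ = g * (tJ hF hω * (g⁻¹ * π u * g)) * g⁻¹ := by rw [h]
        _ = g * tJ hF hω * g⁻¹ * π u := by group
    have hb := List.all_eq_true.mp s_checks.2.2.2.2.2.1 _
      (enc_mem_elems C (gensOK_s hF hω) s_checks.1 hs)
    simp only [Bool.or_eq_true, List.any_eq_true, Bool.not_eq_true'] at hb
    rcases hb with (hb | hb) | ⟨p, hp, hb⟩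
    · exfalso
      rw [show s = 1 from Subtype.ext ((C).inj (by
        rw [Nat.eq_of_beq_eq_true hb, OneMemClass.coe_one, (C).one_enc, jOps_one])), map_one] at e
      have h1 : tJ hF hω = 1 := conj_eq_one_iff.mp e.symm
      have := tJ_orderOf hF hω
      rw [h1, orderOf_one] at this
      exact absurd this (by norm_num)
    · rw [← e, show s = tT hF hω from Subtype.ext ((C).inj
        ((Nat.eq_of_beq_eq_true hb).trans (tG_spec hF hω).2.symm))]
      rfl
    · exfalso
      obtain ⟨u, huT, u1, -⟩ := pairOK_allGens hF hω (mem_allGens (Or.inr (Or.inr hp)))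
      have := hcs ⟨u, huT⟩ (mem_genGroup_of_enc C hp u1)
      rw [(commC_enc hF hω rfl u1).mpr (congrArg Subtype.val this).symm] at hb
      exact Bool.noConfusion hb
  have hc : g ∈ cenJ hF hω := Subgroup.mem_centralizer_singleton_iff.mpr
    (by rw [← mul_inv_eq_iff_eq_mul]; exact hfix)
  obtain ⟨q', hq', h', hh', rfl⟩ := exists_qh hF hω hc
  refine mul_mem (hSK (hqS hq')) ?_
  have hhN : h' ∈ Subgroup.normalizer (sJ hF hω : Set (J3 F ω)) := by
    have := mul_mem (inv_mem (Subgroup.le_normalizer (hqS hq') :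
      q' ∈ Subgroup.normalizer (sJ hF hω : Set (J3 F ω)))) hg
    rwa [inv_mul_cancel_left] at this
  obtain ⟨h, hh, rfl⟩ := exists_of_mem_toJ hh'
  have hb := List.all_eq_true.mp fusion_checks.2.2.2.2.2.2 _
    (enc_mem_elems C (gensOK_h hF hω) h_checks.1 hh)
  simp only [Bool.or_eq_true, List.any_eq_true, List.all_eq_true, Bool.not_eq_true'] at hb
  rcases hb with ⟨e, he, hb⟩ | ⟨p, hp, hb⟩
  · obtain ⟨d1, d2, d3⟩ := extraT_spec hF hω 0
    obtain ⟨w, hw, ew⟩ : ∃ w : ↥(threeJ3 F ω), π w ∈ K ∧ (C).enc (w : GL F9 F) = e := by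
      simp only [dPows, List.mem_cons, List.not_mem_nil, or_false] at he
      rcases he with rfl | rfl | rfl
      · exact ⟨1, by rw [map_one]; exact one_mem K,
          by rw [OneMemClass.coe_one, (C).one_enc, jOps_one]⟩
      · exact ⟨_, hdK, d2⟩
      · exact ⟨(extraT hF hω 0)⁻¹, by rw [map_inv]; exact inv_mem hdK,
          by rw [InvMemClass.coe_inv]; exact d3⟩
    rw [← ew, ← el_mulC hF hω rfl rfl] at hb
    have hmem : π (w * h) ∈ K :=
      hSK (mem_toJ (K := sGroup hF hω) (g := w * h) (good_of_sift C (gensOK_s hF hω) s_checks.1 hb))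
    rw [map_mul] at hmem
    simpa using mul_mem (inv_mem hw) hmem
  · exfalso
    obtain ⟨u, huT, u1, -⟩ := pairOK_allGens hF hω (mem_allGens (Or.inr (Or.inr hp)))
    obtain ⟨x, hx, ex⟩ := exists_of_mem_toJ
      ((Subgroup.mem_normalizer_iff.mp hhN _).mp
        (mem_toJ (ω := ω) (g := ⟨u, huT⟩) (mem_genGroup_of_enc C hp u1)))
    rw [← map_inv, ← map_mul, ← map_mul] at ex
    have he := eq_of_mk_eq hF hω (pow_128_sGroup hF hω hx)
      (by rw [conj_pow, pow_128_sGroup hF hω (x := ⟨u, huT⟩) (mem_genGroup_of_enc C hp u1),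
        mul_one, mul_inv_cancel]) ex
    have := hb _ (enc_mem_elems C (gensOK_s hF hω) s_checks.1 hx)
    rw [← u1, ← el_mulC hF hω rfl rfl, ← el_mulC hF hω rfl rfl,
      show (h : GL F9 F) * u = x * h by rw [he]; simp, Nat.beq_refl] at this
    exact Bool.noConfusion this

theorem sJ_le_of_invol {T : Subgroup (J3 F ω)}
    (h : ∀ x ∈ sJ hF hω, x * x = 1 → x ≠ 1 → x ∈ T) : sJ hF hω ≤ T := by
  intro y hy
  obtain ⟨s, hs, rfl⟩ := exists_of_mem_toJ hy
  have hle : sGroup hF hω ≤ (T.comap π).map (threeJ3 F ω).subtype := by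
    refine (Subgroup.closure_le _).2 ?_
    rintro g ⟨p, hp, hg⟩
    obtain ⟨g', hgT, g1, -⟩ := pairOK_allGens hF hω (mem_allGens (Or.inr (Or.inr hp)))
    obtain rfl := (C).inj (hg.trans g1.symm)
    refine ⟨⟨g, hgT⟩, ?_, rfl⟩
    show π ⟨g, hgT⟩ ∈ T
    by_cases h1 : π ⟨g, hgT⟩ = 1
    · rw [h1]; exact one_mem T
    · exact h _ (mem_toJ (mem_genGroup_of_enc C hp hg))
        (by rw [← map_mul, show (⟨g, hgT⟩ : ↥(threeJ3 F ω)) * ⟨g, hgT⟩ = 1 from
          Subtype.ext (gen_s_sq hF hω hp hg), map_one]) h1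
  obtain ⟨s', hs', e⟩ := hle hs
  exact (Subtype.ext e : s' = s) ▸ hs'

include hF hω in
/-- The 2-fusion system of a group isomorphic to the third Janko group is simple. -/
theorem isSimple_fusion {G : Type*} [Group G] [Finite G] (e : G ≃* J3 F ω) (S : Sylow 2 G) :
    (groupFusionSystem (S : Subgroup G)).IsSimple 2 := by
  haveI : Fact (Nat.Prime 2) := ⟨Nat.prime_two⟩
  -- straighten the isomorphism
  obtain ⟨f, hf⟩ : ∃ f : G ≃* J3 F ω, ∀ x, x ∈ (S : Subgroup G) ↔ f x ∈ sJ hF hω := by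
    have hp : IsPGroup 2 ((S : Subgroup G).map e.toMonoidHom) := S.2.map _
    obtain ⟨P, hP⟩ := hp.exists_le_sylow
    obtain ⟨g, hg⟩ := MulAction.exists_smul_eq (J3 F ω) P (sylJ hF hω)
    have hcard : Nat.card ↥((S : Subgroup G).map e.toMonoidHom) = Nat.card ↥(P : Subgroup (J3 F ω)) := by
      rw [Subgroup.card_map_of_injective e.injective, Sylow.card_eq_multiplicity,
        Sylow.card_eq_multiplicity, Nat.card_congr e.toEquiv]
    have heq := Subgroup.eq_of_le_of_card_ge hP hcard.ge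
    refine ⟨e.trans (MulAut.conj g), fun x => ?_⟩
    show x ∈ _ ↔ MulAut.conj g (e x) ∈ sJ hF hω
    rw [← coe_sylJ, ← hg]
    have hh : MulAut.conj g (e x) ∈ ((g • P : Sylow 2 (J3 F ω)) : Subgroup (J3 F ω)) ↔
        e x ∈ (P : Subgroup (J3 F ω)) := Subgroup.smul_mem_pointwise_smul_iff
    rw [hh, ← heq]
    exact (Subgroup.mem_map_iff_mem (f := e.toMonoidHom) e.injective).symm
  have hinv : ∀ y : J3 F ω, y ∈ sJ hF hω → f.symm y ∈ (S : Subgroup G) := fun y hy =>
    (hf _).mpr (by rwa [f.apply_symm_apply])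
  have hne : (S : Subgroup G) ≠ ⊥ := by
    intro h
    have hc := Nat.card_congr (Equiv.subtypeEquiv f.toEquiv hf :
      ↥(S : Subgroup G) ≃ ↥(sJ hF hω))
    rw [card_sJ, h, Subgroup.card_bot] at hc
    exact absurd hc (by norm_num)
  set d := f.symm (π (extraT hF hω 0)) with hd
  have hdN : d ∈ Subgroup.normalizer ((S : Subgroup G) : Set G) := by
    refine Subgroup.mem_normalizer_iff.mpr fun x => ?_
    rw [hf, hf, map_mul, map_mul, map_inv, hd, f.apply_symm_apply]
    have hn : π (extraT hF hω 0) ∈ Subgroup.normalizer (sJ hF hω : Set (J3 F ω)) := by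
      have hle : sJ hF hω ≤ (sJ hF hω).comap (MulAut.conj (π (extraT hF hω 0))).toMonoidHom := by
        intro y hy
        obtain ⟨s, hs, rfl⟩ := exists_of_mem_toJ hy
        show π (extraT hF hω 0) * π s * (π (extraT hF hω 0))⁻¹ ∈ sJ hF hω
        rw [← map_mul, ← map_inv, ← map_mul]
        refine mem_toJ ?_
        have hgl : sGroup hF hω ≤
            (sGroup hF hω).comap (MulAut.conj (extraT hF hω 0 : GL F9 F)).toMonoidHom := by
          refine (Subgroup.closure_le _).2 ?_
          rintro g ⟨p, hp, hg⟩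
          show (extraT hF hω 0 : GL F9 F) * g * (extraT hF hω 0 : GL F9 F)⁻¹ ∈ sGroup hF hω
          refine good_of_sift C (gensOK_s hF hω) s_checks.1 ?_
          rw [mul_assoc, el_mulC hF hω (extraT_spec hF hω 0).2.1
            (el_mulC hF hω hg (extraT_spec hF hω 0).2.2)]
          exact List.all_eq_true.mp fusion_checks.2.2.2.2.1 p hp
        exact hgl hs
      have hmap := Subgroup.eq_of_le_of_card_ge
        (Subgroup.map_le_iff_le_comap.mpr hle)
        (le_of_eq (Subgroup.card_map_of_injective (MulAut.conj _).injective).symm)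
      refine Subgroup.mem_normalizer_iff.mpr fun y => ⟨fun hy => hle hy, fun hy => ?_⟩
      rw [← hmap] at hy
      obtain ⟨z, hz, ez⟩ := hy
      exact (MulAut.conj _).injective ez ▸ hz
    exact Subgroup.mem_normalizer_iff.mp hn (f x)
  set R := (qJ hF hω).comap f.toMonoidHom with hR
  have hqS : ∀ y ∈ qJ hF hω, y ∈ sJ hF hω := fun y hy => by
    obtain ⟨q, hq, rfl⟩ := exists_of_mem_toJ hy
    exact mem_toJ (qGroup_le_sGroup hF hω hq)
  have hnormR : ∀ i : Fin 3, f.symm (π (extraT hF hω i)) ∈ Subgroup.normalizer (R : Set G) := by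
    intro i
    refine Subgroup.mem_normalizer_iff.mpr fun x => ?_
    simp only [hR, Subgroup.mem_comap, MulEquiv.toMonoidHom_eq_coe, MonoidHom.coe_coe, map_mul,
      map_inv, f.apply_symm_apply]
    exact Subgroup.mem_normalizer_iff.mp (mem_normalizer_qJ hF hω (extra_mem_cen hF hω i)) (f x)
  refine Fusion87.isSimple_groupFusion_of_generator S hne ?_ d hdN R ?_
    (f.symm (π (extraT hF hω 1))) (f.symm (π (extraT hF hω 2))) (hnormR 1) (hnormR 2) ?_ ?_
    (by rw [hd, ← map_mul, extra_mul]) ?_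
  · intro T hT
    refine or_iff_not_imp_left.mpr fun hTne => le_antisymm hT.1 ?_
    -- an involution of `T`
    have hTp : IsPGroup 2 T := S.2.to_le hT.1
    haveI : Nontrivial T := (Subgroup.nontrivial_iff_ne_bot T).mpr hTne
    obtain ⟨n, hn⟩ := IsPGroup.iff_card.mp hTp
    have h2 : 2 ∣ Nat.card T := by
      rw [hn]
      refine dvd_pow_self 2 ?_
      rintro rfl
      exact absurd hn (by simpa using (Finite.one_lt_card : 1 < Nat.card T).ne')
    obtain ⟨u, hu⟩ := exists_prime_orderOf_dvd_card' 2 h2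
    have ho : orderOf (f u.1) = 2 := by
      rw [MulEquiv.orderOf_eq, Subgroup.orderOf_coe, hu]
    have key : sJ hF hω ≤ T.comap f.symm.toMonoidHom := by
      refine sJ_le_of_invol hF hω fun x hx hxx hx1 => ?_
      have hox : orderOf x = 2 := orderOf_eq_prime (by rw [pow_two, hxx]) hx1
      obtain ⟨g, hg⟩ := isConj_iff.mp ((isConj_tJ hF hω ho).symm.trans (isConj_tJ hF hω hox))
      show f.symm x ∈ T
      have e : f.symm g * u.1 * (f.symm g)⁻¹ = f.symm x := by
        rw [← hg, map_mul, map_mul, map_inv, f.symm_apply_apply]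
      rw [← e]
      exact Fusion.stronglyClosed_conj_mem hT u.2 (by rw [e]; exact hinv x hx)
    intro x hx
    have : f.symm (f x) ∈ T := key ((hf x).mp hx)
    rwa [f.symm_apply_apply] at this
  · refine Fusion87.isCentric_groupFusion_of_centralizer_le (fun x hx => (hf x).mpr (hqS _ hx)) ?_
    intro x hx
    refine centralizer_qJ_le hF hω fun y hy => ?_
    have hmem : f.symm y ∈ R := show f (f.symm y) ∈ qJ hF hω by rwa [f.apply_symm_apply]
    have h := congrArg f (Subgroup.mem_centralizer_iff.mp hx _ hmem)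
    rw [map_mul, map_mul, f.apply_symm_apply] at h
    exact h
  · rw [← map_pow, extra_sq hF hω (by decide), map_one]; exact one_mem _
  · rw [← map_pow, extra_sq hF hω (by decide), map_one]; exact one_mem _
  · intro g hg _ K hSK _ hdK
    have hgN : f g ∈ Subgroup.normalizer (sJ hF hω : Set (J3 F ω)) := by
      refine Subgroup.mem_normalizer_iff.mpr fun y => ?_
      have h := Subgroup.mem_normalizer_iff.mp hg (f.symm y)
      rw [hf, hf, map_mul, map_mul, map_inv, f.apply_symm_apply] at h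
      exact h
    have := normalizer_sJ hF hω hgN (K := K.comap f.symm.toMonoidHom)
      (fun y hy => hSK (hinv y hy)) hdK
    simpa using this

end Cfsg.Agent.Lib.JankoThree
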