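import Cfsg.Agent.Lib.JankoThree.LineOrbit
import Cfsg.Agent.Lib.JankoThree.Unitary
import Mathlib.LinearAlgebra.Span.Basic

/-!
# Orbits of the triple cover of the third Janko group on vectors and lines
-/

set_option autoImplicit false

namespace Cfsg.Agent.Lib.JankoThree

open Cfsg.Spor Cfsg.Agent.Lib.Compute

variable {F : Type*} [Field F] [Fintype F] {ω : F} (hF : Fintype.card F = 4)
  (hω : ω ^ 2 + ω + 1 = 0)

local notation "C" => jCoding hF hω

attribute [local irreducible] fixBound monFix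

/-- The orbit of a base vector. -/
def vecOrbit (F : Type*) [Field F] [Fintype F] (ω : F) (k : ℕ) : Set (F9 → F) :=
  Set.range fun g : ↥(threeJ3 F ω) => (g.1 : Matrix F9 F9 F).mulVec (baseVec F ω k)

theorem ncard_vecOrbit (k : ℕ) : (vecOrbit F ω k).ncard = (vecStab F ω k).index := by
  have hiff : ∀ g h : ↥(threeJ3 F ω), g⁻¹ * h ∈ vecStab F ω k ↔
      (g.1 : Matrix F9 F9 F).mulVec (baseVec F ω k) = (h.1 : Matrix F9 F9 F).mulVec (baseVec F ω k) := by
    intro g h
    show ((g⁻¹ * h).1 : Matrix F9 F9 F).mulVec (baseVec F ω k) = baseVec F ω k ↔ _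
    rw [Subgroup.coe_mul, InvMemClass.coe_inv, Units.val_mul, ← Matrix.mulVec_mulVec]
    constructor
    · intro e
      conv_lhs => rw [← e]
      rw [Matrix.mulVec_mulVec, Units.mul_inv, Matrix.one_mulVec]
    · intro e
      rw [← e, Matrix.mulVec_mulVec, Units.inv_mul, Matrix.one_mulVec]
  let q : ↥(threeJ3 F ω) ⧸ vecStab F ω k → (F9 → F) := fun x =>
    Quotient.liftOn' x (fun g => (g.1 : Matrix F9 F9 F).mulVec (baseVec F ω k))
      fun g h e => (hiff g h).mp (QuotientGroup.leftRel_apply.mp e)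
  have hq : Function.Injective q := by
    intro a b e
    induction a using QuotientGroup.induction_on with | _ g =>
    induction b using QuotientGroup.induction_on with | _ h =>
    exact QuotientGroup.eq.mpr ((hiff g h).mpr e)
  have hr : vecOrbit F ω k = Set.range q := by
    ext v
    constructor
    · rintro ⟨g, rfl⟩; exact ⟨(g : ↥(threeJ3 F ω) ⧸ vecStab F ω k), rfl⟩
    · rintro ⟨x, rfl⟩
      induction x using QuotientGroup.induction_on with | _ g =>
      exact ⟨g, rfl⟩
  rw [hr, ← Nat.card_coe_set_eq, Nat.card_range_of_injective hq, Subgroup.index]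

include hF hω in
theorem orbit_mul_stab (k : ℕ) :
    (vecOrbit F ω k).ncard * Nat.card ↥(vecStab F ω k) = 150698880 := by
  rw [ncard_vecOrbit, mul_comm, Subgroup.card_mul_index, card_threeJ3 hF hω]

include hF hω in
theorem le_card_vecStab_zero : 2160 ≤ Nat.card ↥(vecStab F ω 0) := by
  obtain ⟨h1, h2, h3, h4, h5, h6, -⟩ := stab_vec_checks
  have hS : GensOK C DataLines.stabGens := fun p hp =>
    pairOK_of_pairInv hF hω (List.all_eq_true.mp h1 p hp)
  rw [← h3, ← card_genGroup C hS h2,
    Nat.card_congr ((vecStab F ω 0).equivMapOfInjective (threeJ3 F ω).subtype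
      (threeJ3 F ω).subtype_injective).toEquiv]
  refine Subgroup.card_le_of_le ((Subgroup.closure_le _).2 ?_)
  rintro g ⟨p, hp, hg⟩
  obtain ⟨i, hi, rfl⟩ := List.mem_iff_getElem.mp hp
  have hc := List.all_eq_true.mp h5
    (DataLines.stabGens[i], DataLines.stabCerts[i]'(h4 ▸ hi))
    (List.mem_iff_getElem.mpr ⟨i, by rw [List.length_zip, ← h4]; simpa using hi, by simp⟩)
  refine ⟨⟨g, (memC_spec hF hω (hg.symm ▸ hc)).1⟩, ?_, rfl⟩
  show (g : Matrix F9 F9 F).mulVec (baseVec F ω 0) = baseVec F ω 0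
  rw [baseVec, mulV_spec hF hω hg, Nat.eq_of_beq_eq_true (List.all_eq_true.mp h6 _ hp)]

include hF hω in
theorem ncard_vecOrbit_zero : (vecOrbit F ω 0).ncard = 69768 := by
  have h := orbit_mul_stab hF hω 0
  have h1 : Nat.card ↥(vecStab F ω 0) ≤ 2160 := by
    refine (card_vecStab_le hF hω (k := 0) (by norm_num)).trans (le_of_eq ?_)
    exact (congrArg (fixBound 0) (Nat.eq_of_beq_eq_true fix_counts.1)).trans
      (Nat.eq_of_beq_eq_true fix_bounds.1)
  rw [le_antisymm h1 (le_card_vecStab_zero hF hω)] at h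
  omega

include hF hω in
theorem le_ncard_vecOrbit_one : 130815 ≤ (vecOrbit F ω 1).ncard := by
  have h := orbit_mul_stab hF hω 1
  have h1 : Nat.card ↥(vecStab F ω 1) ≤ 1152 := by
    have hc : monFix 1 = 18 := Nat.eq_of_beq_eq_true fix_counts.2
    have hb : fixBound 1 18 = 1152 := Nat.eq_of_beq_eq_true fix_bounds.2
    have hle := card_vecStab_le hF hω (k := 1) (by norm_num)
    rw [hc, hb] at hle
    exact hle
  have h' : (vecOrbit F ω 1).ncard * Nat.card ↥(vecStab F ω 1) ≤ (vecOrbit F ω 1).ncard * 1152 :=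
    Nat.mul_le_mul_left _ h1
  rw [h] at h'
  exact Nat.le_of_mul_le_mul_right (le_trans (by norm_num) h') (by norm_num : 0 < 1152)

theorem baseVec_zero : baseVec F ω 0 = Pi.single (0 : F9) (1 : F) := by
  rw [baseVec, Nat.eq_of_beq_eq_true stab_vec_checks.2.2.2.2.2.2.1]
  funext w
  have hb : ∀ z : F9, (1 : ℕ).testBit (ix z) = decide (z = 0) ∧ (1 : ℕ).testBit (9 + ix z) = false := by
    decide +kernel
  rw [decV, (hb w).1, (hb w).2, Pi.single_apply]
  by_cases h : w = 0 <;> simp [phi, h]

theorem baseVec_one_isotropic (h2 : ∀ a : F, a + a = 0) : ∑ z, baseVec F ω 1 z ^ 3 = 0 := by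
  rw [baseVec, Nat.eq_of_beq_eq_true stab_vec_checks.2.2.2.2.2.2.2, sum_pz]
  have hb : ∀ i : Fin 9, (3 : ℕ).testBit (ix (pz i)) = decide (i.val < 2) ∧
      (3 : ℕ).testBit (9 + ix (pz i)) = false := by decide +kernel
  have hv : ∀ i : Fin 9, decV F ω 3 (pz i) = if i.val < 2 then 1 else 0 := fun i => by
    rw [decV, (hb i).1, (hb i).2]
    by_cases h : i.val < 2 <;> simp [phi, h]
  simp only [hv, Fin.sum_univ_succ, Fin.sum_univ_zero, Fin.val_zero, Fin.val_succ]
  norm_num
  rw [← one_add_one_eq_two]; exact h2 1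

/-- The nonzero isotropic vectors. -/
def isoSet (F : Type*) [Field F] : Set (F9 → F) := {w | w ≠ 0 ∧ ∑ z, w z ^ 3 = 0}

include hF hω in
theorem vecOrbit_one_subset : vecOrbit F ω 1 ⊆ isoSet F := by
  have hv0 : baseVec F ω 1 ≠ 0 := by
    intro h
    have hbit := congrFun h (pz 0)
    rw [baseVec, Nat.eq_of_beq_eq_true stab_vec_checks.2.2.2.2.2.2.2] at hbit
    have h1 : (3 : ℕ).testBit (ix (pz 0)) = true ∧ (3 : ℕ).testBit (9 + ix (pz 0)) = false := by
      decide +kernel
    rw [decV, h1.1, h1.2] at hbit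
    simp [phi] at hbit
  rintro _ ⟨g, rfl⟩
  refine ⟨fun h => hv0 ?_, ?_⟩
  · have := congrArg ((g.1⁻¹ : GL F9 F) : Matrix F9 F9 F).mulVec h
    simpa only [Matrix.mulVec_mulVec, Units.inv_mul, Matrix.one_mulVec, Matrix.mulVec_zero] using this
  · have h := threeJ3_le_unitary hF hω g.2 (baseVec F ω 1) (baseVec F ω 1)
    have e : ∀ v : F9 → F, ∑ z, v z ^ 3 = ∑ z, v z * v z ^ 2 := fun v =>
      Finset.sum_congr rfl fun z _ => by ring
    rw [e, h, ← e, baseVec_one_isotropic (add_self_eq_zero' hF)]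

include hF in
theorem ncard_isoSet_le : (isoSet F).ncard ≤ 130815 := by
  classical
  set U := Finset.univ.filter fun w : F9 → F => ∑ z, w z ^ 3 = 0 with hU
  have h2 := add_self_eq_zero' hF (1 : F)
  have hsub : isoSet F ⊆ ↑(U.erase 0) := by
    rintro w ⟨h1, h3⟩
    simp [hU, h1, h3]
  refine (Set.ncard_le_ncard hsub (Finset.finite_toSet _)).trans ?_
  rw [Set.ncard_coe_finset, Finset.card_erase_of_mem (by simp [hU])]
  suffices U.card ≤ 130816 by omega
  let supp : (F9 → F) → Finset F9 := fun w => Finset.univ.filter fun z => w z ≠ 0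
  have hfib : ∀ s ∈ (Finset.univ : Finset F9).powerset,
      (U.filter fun w => supp w = s).card ≤ if Even s.card then 3 ^ s.card else 0 := by
    intro s _
    by_cases he : Even s.card
    · rw [if_pos he]
      refine (Finset.card_le_card (t := Fintype.piFinset fun z : F9 =>
        if z ∈ s then (Finset.univ : Finset F).erase 0 else {0}) ?_).trans (le_of_eq ?_)
      · intro w hw
        rw [Finset.mem_filter] at hw
        rw [Fintype.mem_piFinset]
        intro z
        by_cases hz : z ∈ s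
        · rw [if_pos hz, Finset.mem_erase]
          rw [← hw.2] at hz
          exact ⟨(Finset.mem_filter.mp hz).2, Finset.mem_univ _⟩
        · rw [if_neg hz, Finset.mem_singleton]
          by_contra hne
          exact hz (hw.2 ▸ Finset.mem_filter.mpr ⟨Finset.mem_univ _, hne⟩)
      · rw [Fintype.card_piFinset]
        have e1 : ∀ z : F9, (if z ∈ s then (Finset.univ : Finset F).erase 0 else {0}).card =
            if z ∈ s then 3 else 1 := by
          intro z
          by_cases hz : z ∈ s
          · rw [if_pos hz, if_pos hz, Finset.card_erase_of_mem (Finset.mem_univ _), Finset.card_univ, hF]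
          · rw [if_neg hz, if_neg hz, Finset.card_singleton]
        simp only [e1, Finset.prod_ite_mem, Finset.univ_inter, Finset.prod_const]
    · rw [if_neg he, Nat.le_zero, Finset.card_eq_zero, Finset.filter_eq_empty_iff]
      intro w hw hs
      apply he
      rw [hU, Finset.mem_filter] at hw
      have hsum : ∑ z, w z ^ 3 = ((supp w).card : F) := by
        rw [← Finset.sum_filter_add_sum_filter_not Finset.univ fun z => w z ≠ 0]
        rw [Finset.sum_eq_zero (s := Finset.univ.filter fun z => ¬w z ≠ 0) fun z hz => by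
          rw [not_not.mp (Finset.mem_filter.mp hz).2]; ring, add_zero]
        rw [Finset.sum_congr rfl fun z hz => show w z ^ 3 = 1 by
          have := FiniteField.pow_card_sub_one_eq_one (w z) (Finset.mem_filter.mp hz).2
          rwa [hF] at this]
        simp [supp]
      rw [hs, hw.2] at hsum
      rcases Nat.even_or_odd s.card with h | h
      · exact h
      · exfalso
        obtain ⟨m, hm⟩ := h
        rw [hm, Nat.cast_add, Nat.cast_mul, Nat.cast_one] at hsum
        have : ((2 : ℕ) : F) = 0 := by rw [Nat.cast_two, ← one_add_one_eq_two]; exact h2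
        rw [this, zero_mul, zero_add] at hsum
        exact zero_ne_one hsum
  rw [Finset.card_eq_sum_card_fiberwise (f := supp) (t := (Finset.univ : Finset F9).powerset)
    (fun w _ => Finset.mem_powerset.mpr (Finset.subset_univ _))]
  refine (Finset.sum_le_sum hfib).trans (le_of_eq ?_)
  rw [Finset.sum_powerset_apply_card fun n => if Even n then 3 ^ n else 0]
  rw [Finset.card_univ, show Fintype.card F9 = 9 from rfl]
  simp only [Finset.sum_range_succ, Finset.sum_range_zero, smul_eq_mul, Nat.choose_eq_descFactorial_div_factorial]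
  decide

include hF hω in
theorem vecOrbit_one_eq : vecOrbit F ω 1 = isoSet F :=
  Set.eq_of_subset_of_ncard_le (vecOrbit_one_subset hF hω)
    ((ncard_isoSet_le hF).trans (le_ncard_vecOrbit_one hF hω)) (Set.toFinite _)

theorem smul_mem_vecOrbit {k : ℕ} {v : F9 → F} (hv : v ∈ vecOrbit F ω k) (n : ZMod 3)
    (hF : Fintype.card F = 4) (hω : ω ^ 2 + ω + 1 = 0) :
    omegaPow F ω n • v ∈ vecOrbit F ω k := by
  obtain ⟨g, rfl⟩ := hv
  refine ⟨⟨scalar hF hω n, monGroup_le hF hω (scalar_spec hF hω n).1⟩ * g, ?_⟩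
  simp only [Subgroup.coe_mul, Units.val_mul, (scalar_spec hF hω n).2, Matrix.smul_mul,
    Matrix.one_mul, Matrix.smul_mulVec]

include hF hω in
theorem ncard_lines :
    {L : Submodule F (F9 → F) | ∃ g ∈ threeJ3 F ω,
      L = Submodule.span F {((g : Matrix F9 F9 F).mulVec (Pi.single (0 : F9) (1 : F)))}}.ncard =
      23256 := by
  classical
  rw [← baseVec_zero (ω := ω)]
  set O := (Set.toFinite (vecOrbit F ω 0)).toFinset with hO
  let f : (F9 → F) → Submodule F (F9 → F) := fun v => Submodule.span F {v}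
  have himg : {L : Submodule F (F9 → F) | ∃ g ∈ threeJ3 F ω,
      L = Submodule.span F {((g : Matrix F9 F9 F).mulVec (baseVec F ω 0))}} = ↑(O.image f) := by
    ext L
    simp only [Finset.coe_image, hO, Set.Finite.coe_toFinset, Set.mem_image, Set.mem_setOf_eq]
    constructor
    · rintro ⟨g, hg, rfl⟩; exact ⟨_, ⟨⟨g, hg⟩, rfl⟩, rfl⟩
    · rintro ⟨_, ⟨g, rfl⟩, rfl⟩; exact ⟨g.1, g.2, rfl⟩
  rw [himg, Set.ncard_coe_finset]
  have hne : ∀ v ∈ O, v ≠ 0 := by
    intro v hv h
    rw [hO, Set.Finite.mem_toFinset] at hv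
    obtain ⟨g, rfl⟩ := hv
    have := congrArg ((g.1⁻¹ : GL F9 F) : Matrix F9 F9 F).mulVec h
    simp only [Matrix.mulVec_mulVec, Units.inv_mul, Matrix.one_mulVec, Matrix.mulVec_zero,
      baseVec_zero] at this
    simpa using congrFun this 0
  have hfib : ∀ L ∈ O.image f, (O.filter fun v => f v = L).card = 3 := by
    intro L hL
    obtain ⟨v, hv, rfl⟩ := Finset.mem_image.mp hL
    have hset : (O.filter fun w => f w = f v) =
        (Finset.univ : Finset (ZMod 3)).image fun n => omegaPow F ω n • v := by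
      ext w
      rw [Finset.mem_filter, Finset.mem_image]
      constructor
      · rintro ⟨-, e⟩
        obtain ⟨z, hz⟩ := Submodule.span_singleton_eq_span_singleton.mp e.symm
        obtain ⟨n, hn⟩ := exists_omegaPow hF hω z.ne_zero
        exact ⟨n, Finset.mem_univ _, by rw [← hn]; exact hz⟩
      · rintro ⟨n, -, rfl⟩
        refine ⟨?_, ?_⟩
        · rw [hO, Set.Finite.mem_toFinset] at hv ⊢
          exact smul_mem_vecOrbit hv n hF hω
        · exact (Submodule.span_singleton_smul_eq
            (isUnit_iff_ne_zero.mpr (omegaPow_ne_zero hF hω n)) v)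
    rw [hset, Finset.card_image_of_injective, Finset.card_univ, ZMod.card]
    intro a b e
    exact omegaPow_injective hF hω (smul_left_injective F (hne v hv) e)
  have h := Finset.card_eq_sum_card_image f O
  rw [Finset.sum_congr rfl hfib, Finset.sum_const, smul_eq_mul,
    show O.card = 69768 from (Set.ncard_eq_toFinset_card _ _).symm.trans
      (ncard_vecOrbit_zero hF hω)] at h
  omega

include hF hω in
theorem isotropic_transitive {v w : F9 → F} (hv : v ≠ 0) (hw : w ≠ 0)
    (hv0 : ∑ z, v z ^ 3 = 0) (hw0 : ∑ z, w z ^ 3 = 0) :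
    ∃ g ∈ threeJ3 F ω, (g : Matrix F9 F9 F).mulVec v = w := by
  have h := vecOrbit_one_eq hF hω
  obtain ⟨a, rfl⟩ : v ∈ vecOrbit F ω 1 := h ▸ ⟨hv, hv0⟩
  obtain ⟨b, rfl⟩ : w ∈ vecOrbit F ω 1 := h ▸ ⟨hw, hw0⟩
  refine ⟨(b * a⁻¹).1, (b * a⁻¹).2, ?_⟩
  show _ = (b.1 : Matrix F9 F9 F).mulVec _
  rw [Matrix.mulVec_mulVec, ← Units.val_mul, ← Subgroup.coe_mul, inv_mul_cancel_right]

end Cfsg.Agent.Lib.JankoThree
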