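import Cfsg.Agent.Lib.JankoThree.Simple
import Cfsg.Prelude.Def_Sporadic
import Mathlib.FieldTheory.Finite.GaloisField

/-!
# A field with four elements and transport to isomorphic groups
-/

set_option autoImplicit false

namespace Cfsg.Agent.Lib.JankoThree

open Cfsg.Spor

/-- A field with four elements with a cube root of unity. -/
theorem exists_field_four : ∃ (F : Type) (_ : Field F) (_ : Fintype F) (ω : F),
    Fintype.card F = 4 ∧ ω ^ 2 + ω + 1 = 0 := by
  classical
  haveI : Fact (Nat.Prime 2) := ⟨Nat.prime_two⟩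
  letI := Fintype.ofFinite (GaloisField 2 2)
  have hF : Fintype.card (GaloisField 2 2) = 4 := by
    rw [← Nat.card_eq_fintype_card, GaloisField.card 2 2 (by norm_num)]; norm_num
  obtain ⟨w, hw0, hw1⟩ : ∃ w : GaloisField 2 2, w ≠ 0 ∧ w ≠ 1 := by
    by_contra h
    push Not at h
    have hsub : (Finset.univ : Finset (GaloisField 2 2)) ⊆ {0, 1} := fun x _ => by
      by_cases h0 : x = 0
      · simp [h0]
      · simp [h x h0]
    have := (Finset.card_le_card hsub).trans Finset.card_le_two
    rw [Finset.card_univ, hF] at this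
    omega
  refine ⟨GaloisField 2 2, inferInstance, inferInstance, w, hF, ?_⟩
  have h3 := FiniteField.pow_card_sub_one_eq_one w hw0
  rw [hF] at h3
  have : (w - 1) * (w ^ 2 + w + 1) = 0 := by
    norm_num at h3
    linear_combination h3
  exact (mul_eq_zero.mp this).resolve_left (sub_ne_zero.mpr hw1)

variable {F : Type*} [Field F] [Fintype F] {ω : F} (hF : Fintype.card F = 4)
  (hω : ω ^ 2 + ω + 1 = 0)

include hF hω in
theorem isJ3_of_equiv {G : Type*} [Group G] (e : G ≃* J3 F ω) : Cfsg.IsJ3 G := by
  haveI := isSimpleGroup_J3 hF hω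
  exact ⟨e.isSimpleGroup, by rw [Nat.card_congr e.toEquiv, card_J3 hF hω]⟩

end Cfsg.Agent.Lib.JankoThree
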