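import Cfsg.Agent.Lib.JankoThree.Model
import Cfsg.Agent.Lib.JankoThree.DataPoints

/-!
# The permutation representation of the third Janko group on 6156 points
-/

set_option autoImplicit false

namespace Cfsg.Agent.Lib.JankoThree

open Cfsg.Spor Cfsg.Agent.Lib.Compute

theorem point_checks :
    DataPoints.gens.all pairInv = true ∧ chainCheck jOps DataPoints.gens DataPoints.chain = true ∧
    chainSize DataPoints.chain = 24480 ∧ DataPoints.gens.length = DataPoints.certs.length ∧
    ((DataPoints.gens.zip DataPoints.certs).all fun q => memC q.1.1 q.2) = true ∧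
    (∀ n : ZMod 3, sift jOps DataPoints.chain (cS n) = true) := by
  refine ⟨?_, ?_, ?_, rfl, ?_, ?_⟩ <;> decide +kernel

variable {F : Type*} [Field F] [Fintype F] {ω : F} (hF : Fintype.card F = 4)
  (hω : ω ^ 2 + ω + 1 = 0)

local notation "C" => jCoding hF hω

/-- The subgroup of order 24480. -/
noncomputable def pointGroup : Subgroup (GL F9 F) := genGroup C DataPoints.gens

theorem gensOK_point : GensOK C DataPoints.gens := fun p hp =>
  pairOK_of_pairInv hF hω (List.all_eq_true.mp point_checks.1 p hp)

theorem card_pointGroup : Nat.card ↥(pointGroup hF hω) = 24480 := by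
  rw [pointGroup, card_genGroup C (gensOK_point hF hω) point_checks.2.1, point_checks.2.2.1]

theorem pointGroup_le : pointGroup hF hω ≤ threeJ3 F ω := by
  rw [pointGroup]
  refine (Subgroup.closure_le _).2 ?_
  rintro g ⟨p, hp, hg⟩
  obtain ⟨i, hi, rfl⟩ := List.mem_iff_getElem.mp hp
  have h := List.all_eq_true.mp point_checks.2.2.2.2.1
    (DataPoints.gens[i], DataPoints.certs[i]'(point_checks.2.2.2.1 ▸ hi))
    (List.mem_iff_getElem.mpr ⟨i, by rw [List.length_zip, ← point_checks.2.2.2.1]; simpa using hi, by simp⟩)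
  exact (memC_spec hF hω (hg.symm ▸ h)).1

theorem center_le_point :
    Subgroup.center ↥(threeJ3 F ω) ≤ (pointGroup hF hω).subgroupOf (threeJ3 F ω) := by
  intro z hz
  obtain ⟨n, hn⟩ := exists_scalar_of_central hF hω hz
  rw [Subgroup.mem_subgroupOf, hn]
  refine good_of_sift C (gensOK_point hF hω) point_checks.2.1 ?_
  have : (C).enc (scalar hF hω n) = cS n := scalar_enc hF hω n
  rw [this]
  exact point_checks.2.2.2.2.2 n

/-- The image in the simple group. -/
noncomputable def pointImage : Subgroup (J3 F ω) :=
  ((pointGroup hF hω).subgroupOf (threeJ3 F ω)).map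
    (QuotientGroup.mk' (Subgroup.center ↥(threeJ3 F ω)))

theorem card_pointImage : Nat.card ↥(pointImage hF hω) = 8160 ∧ (pointImage hF hω).index = 6156 := by
  have hi : (pointImage hF hω).index = ((pointGroup hF hω).subgroupOf (threeJ3 F ω)).index := by
    refine Subgroup.index_map_eq (f := QuotientGroup.mk' (Subgroup.center ↥(threeJ3 F ω))) _
      (QuotientGroup.mk'_surjective _) ?_
    rw [QuotientGroup.ker_mk']
    exact center_le_point hF hω
  have h := ((pointGroup hF hω).subgroupOf (threeJ3 F ω)).card_mul_index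
  rw [Nat.card_congr (Subgroup.subgroupOfEquivOfLe (pointGroup_le hF hω)).toEquiv,
    card_pointGroup, card_threeJ3 hF hω] at h
  have h' := (pointImage hF hω).card_mul_index
  rw [card_J3 hF hω, hi] at h'
  have h6 : ((pointGroup hF hω).subgroupOf (threeJ3 F ω)).index = 6156 := by omega
  rw [h6] at h' hi
  exact ⟨by omega, hi⟩

include hF hω in
/-- A transitive group on 6156 points isomorphic to the simple group, with point stabiliser of
order 8160. -/
theorem exists_transitive : ∃ H : Subgroup (Equiv.Perm (Fin 6156)), Cfsg.IsJ3 H ∧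
    MulAction.IsPretransitive H (Fin 6156) ∧
    Nat.card (MulAction.stabilizer H (0 : Fin 6156)) = 8160 := by
  classical
  set P := pointImage hF hω
  haveI := isSimpleGroup_J3 hF hω
  haveI : Finite (J3 F ω ⧸ P) := inferInstance
  haveI : Finite (J3 F ω) := inferInstance
  have hcard : Nat.card (J3 F ω ⧸ P) = 6156 := (card_pointImage hF hω).2
  let e : J3 F ω ⧸ P ≃ Fin 6156 := Finite.equivFinOfCardEq hcard
  let f : J3 F ω →* Equiv.Perm (Fin 6156) :=
    e.permCongrHom.toMonoidHom.comp (MulAction.toPermHom (J3 F ω) (J3 F ω ⧸ P))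
  have hf : Function.Injective f := by
    refine (MonoidHom.ker_eq_bot_iff f).mp ((MonoidHom.normal_ker f).eq_bot_or_eq_top.resolve_right ?_)
    intro htop
    have hle : f.ker ≤ P := by
      intro g hg
      have := Equiv.congr_fun (MonoidHom.mem_ker.mp hg) (e ((1 : J3 F ω) : J3 F ω ⧸ P))
      simp only [f, MonoidHom.comp_apply, MulEquiv.toMonoidHom_eq_coe, MonoidHom.coe_coe,
        Equiv.Perm.one_apply, Equiv.permCongrHom, MulEquiv.coe_mk, Equiv.permCongr_apply,
        Equiv.symm_apply_apply, EmbeddingLike.apply_eq_iff_eq, MulAction.toPermHom_apply,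
        MulAction.toPerm_apply, MulAction.Quotient.smul_coe, smul_eq_mul, mul_one] at this
      rw [QuotientGroup.eq, mul_one, Subgroup.inv_mem_iff] at this
      exact this
    rw [htop, top_le_iff] at hle
    have := (card_pointImage hF hω).1
    rw [show pointImage hF hω = P from rfl, hle, Subgroup.card_top, card_J3 hF hω] at this
    norm_num at this
  let i := MonoidHom.ofInjective hf
  have hact : ∀ (g : J3 F ω) (x : J3 F ω ⧸ P), i g • e x = e (g • x) := by
    intro g x
    show f g (e x) = _
    simp [f, Equiv.permCongrHom]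
  refine ⟨f.range, isJ3_of_equiv hF hω i.symm, ⟨fun a b => ?_⟩, ?_⟩
  · obtain ⟨g, hg⟩ := MulAction.exists_smul_eq (J3 F ω) (e.symm a) (e.symm b)
    refine ⟨i g, ?_⟩
    rw [← e.apply_symm_apply a, hact, hg, e.apply_symm_apply]
  · have horb := MulAction.index_stabilizer ↥f.range (0 : Fin 6156)
    have htrans : MulAction.orbit ↥f.range (0 : Fin 6156) = Set.univ := by
      refine Set.eq_univ_of_forall fun b => ?_
      obtain ⟨g, hg⟩ := MulAction.exists_smul_eq (J3 F ω) (e.symm 0) (e.symm b)
      refine ⟨i g, ?_⟩
      show i g • (0 : Fin 6156) = b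
      rw [← e.apply_symm_apply 0, hact, hg, e.apply_symm_apply]
    rw [htrans, Set.ncard_univ, Nat.card_eq_fintype_card, Fintype.card_fin] at horb
    have h := (MulAction.stabilizer ↥f.range (0 : Fin 6156)).card_mul_index
    rw [horb, ← Nat.card_congr i.toEquiv, card_J3 hF hω] at h
    omega

end Cfsg.Agent.Lib.JankoThree
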